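import Cfsg.Agent.BlocksB.Cyclic.PrimeOrder
import Cfsg.Agent.Blocks.Congr
import Cfsg.Agent.Blocks.DefectZeroVanish
import Cfsg.Agent.S0962
import Cfsg.Agent.SmallSimple.RealPrime.Basic

/-!
# Simple groups of order dividing 95040 whose elements of order eleven are real

The principal block has the degrees 1, 10 and five times 9; this forces the centraliser to be the Sylow
subgroup, and the class multiplication formula makes `990 |G|` a square.
-/

set_option autoImplicit false
set_option linter.style.haveILetI false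
set_option linter.unusedSectionVars false

namespace CfsgLib.M12Graph

open Cfsg Finset CfsgLib.Char CfsgLib.Block CfsgLib.Block.Chr
open scoped ComplexConjugate commutatorElement

instance fact_eleven : Fact (Nat.Prime 11) := ⟨by norm_num⟩

/-- The only possible degree of the second non-exceptional character. -/
theorem degree_options : ∀ d : Fin 309, ∀ x : Fin 140, 2 ≤ d.1 → d.1 ∣ 95040 → x.1 ∣ 95040 →
    (d.1 % 11 = 1 ∧ x.1 = 1 + d.1 ∨ d.1 % 11 = 10 ∧ (1 + x.1 = d.1 ∨ x.1 + d.1 = 1)) →
    (x.1 % 11 = 2 ∨ x.1 % 11 = 9) → d.1 = 10 ∧ x.1 = 9 := by decide +kernel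

variable {G : Type*} [Group G] [Finite G]

/-- A character of degree ten with the value `-1` on the Sylow subgroup is not constant on its
translate by a commuting element. -/
theorem apply_eq_of_translates {χ : G → ℂ} (hχ : Cfsg.IsCharacter G χ) (P : Subgroup G) (hP : Nat.card P = 11)
    (h1 : χ 1 = 10) (hval : ∀ x ∈ P, x ≠ 1 → χ x = -1) {y : G}
    (hy : ∀ x ∈ P, x ≠ 1 → χ (x * y) = -1) : χ y = 10 := by
  classical
  obtain ⟨n, ρ, rfl⟩ := hχ
  haveI := Fintype.ofFinite P
  set Q : Module.End ℂ (Fin n → ℂ) := ∑ x : P, ρ (x : G) with hQ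
  have hsum : ∀ u : G, (∀ x ∈ P, x ≠ 1 → ρ.character (x * u) = -1) →
      LinearMap.trace ℂ _ (Q * ρ u) = ρ.character u - 10 := by
    intro u hu
    rw [hQ, Finset.sum_mul, map_sum]
    simp only [← map_mul]
    show ∑ x : P, ρ.character ((x : G) * u) = _
    rw [← Finset.add_sum_erase _ _ (mem_univ (1 : P)), OneMemClass.coe_one, one_mul,
      Finset.sum_congr rfl fun x hx => hu x.1 x.2 fun h => (mem_erase.1 hx).1 (Subtype.ext h),
      Finset.sum_const, card_erase_of_mem (mem_univ _), Finset.card_univ, ← Nat.card_eq_fintype_card, hP]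
    norm_num
    ring
  have hQQ : Q * Q = (11 : ℂ) • Q := by
    conv_lhs => rw [hQ, Finset.sum_mul]
    have : ∀ a : P, ρ (a : G) * ∑ x : P, ρ (x : G) = ∑ x : P, ρ (x : G) := fun a => by
      rw [Finset.mul_sum]
      exact Fintype.sum_equiv (Equiv.mulLeft a) _ _ fun x => by simp [map_mul]
    rw [Finset.sum_congr rfl fun a _ => this a, Finset.sum_const, Finset.card_univ, ← Nat.card_eq_fintype_card, hP,
      ← Nat.cast_smul_eq_nsmul ℂ]
    rfl
  have hQ0 : Q = 0 := by
    set R : Module.End ℂ (Fin n → ℂ) := (11 : ℂ)⁻¹ • Q with hR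
    have hproj : LinearMap.IsProj (LinearMap.range R) R := by
      refine ⟨fun v => LinearMap.mem_range_self R v, ?_⟩
      rintro _ ⟨w, rfl⟩
      rw [← Module.End.mul_apply, hR, smul_mul_smul_comm, hQQ, smul_smul]
      norm_num
    have ht := hsum 1 fun x hx hx1 => by rw [mul_one]; exact hval x hx hx1
    rw [map_one, mul_one, h1, sub_self] at ht
    have h := hproj.trace
    rw [hR, map_smul, ht, smul_zero, eq_comm, Nat.cast_eq_zero, Submodule.finrank_eq_zero,
      LinearMap.range_eq_bot] at h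
    exact (smul_eq_zero.1 h).resolve_left (by norm_num)
  have h := hsum y hy
  rw [hQ0, zero_mul, map_zero] at h
  linear_combination -h

theorem degree_le_of_sq_le {d N : ℕ} (h : d * d ≤ N) (hN : N ≤ 95040) : d ≤ 308 := by
  by_contra hc
  have : 309 * 309 ≤ d * d := Nat.mul_le_mul (by omega) (by omega)
  omega

variable [IsSimpleGroup G]

/-- **The real case.** -/
theorem real_case (hG : ¬ IsMulCommutative G) (hn : Nat.card G ∣ 95040) (S : Sylow 11 G)
    (hS : Nat.card (S : Subgroup G) = 11)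
    (he : (Subgroup.centralizer ((S : Subgroup G) : Set G)).relIndex
      (Subgroup.normalizer ((S : Subgroup G) : Set G)) = 2) :
    Nat.card (Subgroup.centralizer ((S : Subgroup G) : Set G)) = 11 ∧ IsSquare (990 * Nat.card G) := by
  classical
  have hp : Nat.Prime 11 := Fact.out
  obtain ⟨M, hM⟩ := exists_isPModular hp
  haveI := hM.2.1.isPrime
  haveI := charP_residue hM
  haveI := Fintype.ofFinite G
  letI := irrFintype (G := G)
  set B := principalBlock M G with hB
  haveI : Fintype B := Fintype.ofFinite _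
  obtain ⟨X, εX, ε, hX, hY, hval, hε, hθdeg, hθeq, hrel⟩ :=
    CfsgLib.Cyclic.principal_prime_order hM S hS he
  have hle : Nat.card G ≤ 95040 := Nat.le_of_dvd (by norm_num) hn
  set one : B := ⟨BrauerPairs.trivIrr G, BrauerPairs.trivIrr_mem_principal⟩ with hone
  set D : B → ℕ := fun χ => charDegree ((χ : IrrCharacter G) : G → ℂ) with hD
  have hD1 : ∀ χ : B, ((χ : IrrCharacter G) : G → ℂ) 1 = (D χ : ℂ) := fun χ => (irr_one _).1
  have hDone : D one = 1 := by
    have h := hD1 one
    rw [show ((one : IrrCharacter G) : G → ℂ) 1 = 1 from rfl] at h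
    exact_mod_cast h.symm
  have hone1 : ∀ g : G, ((one : IrrCharacter G) : G → ℂ) g = 1 := fun _ => rfl
  have honeX : one ∈ X := by
    by_contra h
    have h1 := hθdeg one h
    simp only [CfsgLib.Cyclic.deg] at h1
    rw [show charDegree ((one : IrrCharacter G) : G → ℂ) = 1 from hDone, Int.modEq_iff_dvd] at h1
    rcases hε with rfl | rfl <;> norm_num at h1
  obtain ⟨w, hw⟩ : ∃ w, X.erase one = {w} :=
    card_eq_one.1 (by rw [card_erase_of_mem honeX, hX])
  have hwX : w ∈ X := (mem_erase.1 (hw.ge (mem_singleton_self w))).2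
  have hwne : w ≠ one := (mem_erase.1 (hw.ge (mem_singleton_self w))).1
  have hsumX : ∀ f : B → ℂ, ∑ χ ∈ X, f χ = f one + f w := fun f => by
    rw [← add_sum_erase _ _ honeX, hw, sum_singleton]
  have hεone : εX one = 1 := by
    obtain ⟨h, hc, -⟩ := hval one honeX
    simp only [CfsgLib.Cyclic.deg] at hc
    rw [show charDegree ((one : IrrCharacter G) : G → ℂ) = 1 from hDone, Int.modEq_iff_dvd] at hc
    rcases h with h | h
    · exact h
    · rw [h] at hc; norm_num at hc
  have hwfun : ((w : IrrCharacter G) : G → ℂ) ≠ fun _ => 1 := fun h =>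
    hwne (Subtype.ext (Subtype.ext h))
  have hd2 : 2 ≤ D w := by
    have h0 : 0 < D w := (irr_one _).2
    have h1 : D w ≠ 1 := fun h => ColumnData.ne_one_of_simple hG (w : IrrCharacter G).2 hwfun (by
      rw [hD1, h, Nat.cast_one])
    omega
  have hYc : Xᶜ.card = 5 := by omega
  obtain ⟨θ, hθ⟩ : ∃ θ, θ ∈ Xᶜ := card_pos.1 (by omega)
  rw [mem_compl] at hθ
  have hθD : ∀ θ' ∈ Xᶜ, D θ' = D θ := fun θ' h => by
    have h1 := hθeq θ' θ (mem_compl.1 h) hθ 1 (by rw [orderOf_one]; norm_num)
    rw [hD1, hD1] at h1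
    exact_mod_cast h1
  -- the squares of the degrees
  have hsq : ∑ χ : B, D χ ^ 2 ≤ Nat.card G := by
    have h := sum_degree_sq (G := G)
    rw [Finset.sum_congr rfl fun (χ : G → ℂ) hχ => (show χ 1 ^ 2 = ((charDegree χ ^ 2 : ℕ) : ℂ) by
      rw [show χ 1 = _ from (irr_one ⟨χ, mem_irrFinset.1 hχ⟩).1]; push_cast; rfl), ← Nat.cast_sum, Nat.cast_inj] at h
    rw [← h]
    refine le_of_eq_of_le ?_ (sum_le_sum_of_subset
      (s := (univ : Finset B).map ⟨fun χ : B => ((χ : IrrCharacter G) : G → ℂ), Subtype.val_injective.comp Subtype.val_injective⟩)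
      fun χ hχ => by
        obtain ⟨a, -, rfl⟩ := Finset.mem_map.1 hχ
        exact mem_irrFinset.2 (a : IrrCharacter G).2)
    rw [sum_map]
    rfl
  have hsq' : 1 + D w ^ 2 + 5 * D θ ^ 2 ≤ Nat.card G := by
    refine le_trans (le_of_eq ?_) hsq
    rw [← sum_add_sum_compl X, ← add_sum_erase _ _ honeX, hw, sum_singleton, hDone,
      sum_congr rfl fun θ' h => by rw [hθD θ' h], sum_const, hYc]
    rfl
  -- the relation of the degrees
  have hrel1 : ε * (D θ : ℤ) = 1 + εX w * (D w : ℤ) := by
    have h := hrel θ hθ 1 (by rw [orderOf_one]; norm_num)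
    rw [hsumX, hεone, hD1, hD1, hD1, hDone] at h
    have h' : ((ε * (D θ : ℤ) : ℤ) : ℂ) = ((1 + εX w * (D w : ℤ) : ℤ) : ℂ) := by
      push_cast at h ⊢; linear_combination h
    exact_mod_cast h'
  have hdvd : ∀ χ : B, D χ ∣ 95040 := fun χ => (charDegree_dvd_card _).trans hn
  have hdle : D w ≤ 308 := degree_le_of_sq_le (by nlinarith only [hsq']) hle
  have hxle : D θ < 140 := by
    by_contra hc
    have : 140 * 140 ≤ D θ * D θ := Nat.mul_le_mul (by omega) (by omega)
    have : D θ * D θ = D θ ^ 2 := (sq _).symm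
    omega
  have hc := (hval w hwX).2.1
  have hcθ := hθdeg θ hθ
  simp only [CfsgLib.Cyclic.deg] at hc hcθ
  rw [show charDegree ((w : IrrCharacter G) : G → ℂ) = D w from rfl] at hc
  rw [show charDegree ((θ : IrrCharacter G) : G → ℂ) = D θ from rfl] at hcθ
  unfold Int.ModEq at hc hcθ
  push_cast at hc hcθ
  have hopt := degree_options ⟨D w, by omega⟩ ⟨D θ, hxle⟩ hd2 (hdvd w) (hdvd θ)
    (by rcases (hval w hwX).1 with h | h <;> rcases hε with rfl | rfl <;> rw [h] at hc hrel1 <;>
      simp only [] <;> omega)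
    (by rcases hε with rfl | rfl <;> simp only [] <;> omega)
  obtain ⟨hd10, hx9⟩ := hopt
  simp only at hd10 hx9
  have hδ : εX w = -1 := by
    rcases (hval w hwX).1 with h | h
    · rw [h, hd10] at hc; norm_num at hc
    · exact h
  have hεv : ε = -1 := by
    rw [hδ, hd10, hx9] at hrel1
    omega
  set ψ := ((w : IrrCharacter G) : G → ℂ) with hψ
  have hψ1 : ψ 1 = 10 := by rw [hψ, hD1, hd10]; norm_num
  have hvalP : ∀ x ∈ (S : Subgroup G), x ≠ 1 → ∀ y ∈ Subgroup.centralizer ((S : Subgroup G) : Set G),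
      ¬ 11 ∣ orderOf y → ψ (x * y) = -1 := fun x hx hx1 y hy hyo => by
    rw [hψ, (hval w hwX).2.2 x hx hx1 y hy hyo, hδ]; norm_num
  have hvals : ∀ x ∈ (S : Subgroup G), x ≠ 1 → ψ x = -1 := fun x hx hx1 => by
    have := hvalP x hx hx1 1 (one_mem _) (by rw [orderOf_one]; norm_num)
    rwa [mul_one] at this
  -- the centraliser
  have hC : Nat.card (Subgroup.centralizer ((S : Subgroup G) : Set G)) = 11 := by
    have hker : ∀ y ∈ Subgroup.centralizer ((S : Subgroup G) : Set G), ¬ 11 ∣ orderOf y → y = 1 := by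
      intro y hy hyo
      by_contra hy1
      refine ColumnData.faithful (w : IrrCharacter G).2 hwfun ?_ hy1 ?_
      · show ψ 1 ≠ 1
        rw [hψ1]; norm_num
      · show ψ y = ψ 1
        rw [hψ1]
        exact apply_eq_of_translates (IsIrrCharacter.isCharacter (w : IrrCharacter G).2) _ hS hψ1 hvals
          fun x hx hx1 => hvalP x hx hx1 y hy hyo
    set C := Subgroup.centralizer ((S : Subgroup G) : Set G)
    haveI : IsCyclic (S : Subgroup G) := isCyclic_of_prime_card hS
    have hle' : (S : Subgroup G) ≤ C := fun x hx => Subgroup.mem_centralizer_iff.2 fun z hz =>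
      congrArg Subtype.val ((IsCyclic.commGroup (α := (S : Subgroup G))).mul_comm ⟨z, hz⟩ ⟨x, hx⟩)
    by_contra hne
    obtain ⟨c, hcd⟩ := hS ▸ Subgroup.card_dvd_of_le hle'
    have hc1 : c ≠ 1 := fun h => hne (by rw [hcd, h])
    obtain ⟨q, hq, hqc⟩ := Nat.exists_prime_and_dvd hc1
    haveI := Fact.mk hq
    have hq11 : q ≠ 11 := by
      rintro rfl
      have : 11 * 11 ∣ 95040 := ((Nat.mul_dvd_mul_left 11 hqc).trans
        (hcd ▸ Subgroup.card_subgroup_dvd_card C)).trans hn
      norm_num at this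
    obtain ⟨y, hy⟩ := exists_prime_orderOf_dvd_card' (G := C) q (hcd ▸ hqc.mul_left 11)
    rw [← Subgroup.orderOf_coe] at hy
    have := hker y y.2 (by rw [hy]; exact fun h => hq11 ((Nat.prime_dvd_prime_iff_eq hp hq).1 h).symm)
    rw [this, orderOf_one] at hy
    exact hq.one_lt.ne hy
  refine ⟨hC, ?_⟩
  have hN : Nat.card (Subgroup.normalizer ((S : Subgroup G) : Set G)) = 2 * 11 := by
    have h := Subgroup.card_mul_index ((Subgroup.centralizer ((S : Subgroup G) : Set G)).subgroupOf
      (Subgroup.normalizer ((S : Subgroup G) : Set G)))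
    rw [show ((Subgroup.centralizer ((S : Subgroup G) : Set G)).subgroupOf
      (Subgroup.normalizer ((S : Subgroup G) : Set G))).index = 2 from he,
      Nat.card_congr (Subgroup.subgroupOfEquivOfLe (Subgroup.centralizer_le_normalizer _)).toEquiv, hC] at h
    omega
  obtain ⟨s, t, E⟩ := RealPrime.exists_dihedral (by norm_num) S hS hC hN
  obtain ⟨S', hS'⟩ : ∃ S' : Sylow 11 G, s ∈ (S' : Subgroup G) := by
    obtain ⟨S', h⟩ := (IsPGroup.of_card (p := 11) (n := 1) (G := Subgroup.zpowers s)
      (by rw [Nat.card_zpowers, E.ord, pow_one])).exists_le_sylow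
    exact ⟨S', h (Subgroup.mem_zpowers s)⟩
  obtain ⟨g, hg⟩ := MulAction.exists_smul_eq G S' S
  set s' := g * s * g⁻¹ with hs'
  have hs'S : s' ∈ (S : Subgroup G) := by
    rw [← hg]
    exact ⟨s, hS', rfl⟩
  have hsne : s' ≠ 1 := fun h => E.s_ne_one (conj_eq_one_iff.1 h)
  have hψs : ψ s = -1 := by
    have h : ψ s = ψ s' := IsClassFunction.apply_eq_of_isConj (IsIrrCharacter.isClassFunction (w : IrrCharacter G).2)
      (isConj_iff.2 ⟨g, hs'.symm⟩ : IsConj s s')
    rw [h]
    exact hvals s' hs'S hsne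
  -- values at the involution
  have ht2 : t ^ 2 = 1 := by rw [sq, E.invol]
  have hperf : commutator G = ⊤ := by
    rcases IsSimpleGroup.eq_bot_or_eq_top_of_normal (commutator G) inferInstance with h | h
    · refine absurd ⟨⟨fun a b => ?_⟩⟩ hG
      have h2 : ⁅a, b⁆ ∈ commutator G := by
        rw [commutator_def]
        exact Subgroup.commutator_mem_commutator (Subgroup.mem_top a) (Subgroup.mem_top b)
      rwa [h, Subgroup.mem_bot, commutatorElement_eq_one_iff_mul_comm] at h2
    · exact h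
  obtain ⟨a, ha, -, -, -⟩ := InvolValues.invol_mod_four hperf (IsIrrCharacter.isCharacter (w : IrrCharacter G).2)
    (t := t) E.invol (d := 10) (by rw [← hψ, hψ1]; norm_num)
  rw [← hψ] at ha
  have hto : ¬ 11 ∣ orderOf t := by rw [E.orderOf_t]; norm_num
  have hθt : ∀ θ' ∈ Xᶜ, ((θ' : IrrCharacter G) : G → ℂ) t = (a : ℂ) - 1 := fun θ' h => by
    have h1 := hrel θ' (mem_compl.1 h) t hto
    rw [hsumX, hεone, hδ, hεv, hone1, ← hψ, ha] at h1
    push_cast at h1
    linear_combination -h1
  have h11 : ∀ χ : IrrCharacter G, χ ∉ B → (χ : G → ℂ) s = 0 := by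
    intro χ hχ
    refine eq_zero_of_defectZero hp χ ?_ (by rw [E.ord])
    have hf : (Nat.card G).factorization 11 = 1 := by
      have h := S.card_eq_multiplicity
      rw [hS] at h
      exact Nat.pow_right_injective (show 2 ≤ 11 by norm_num) (show 11 ^ _ = 11 ^ 1 by rw [← h, pow_one])
    rw [hf, pow_one]
    by_contra hnd
    -- a second block of positive defect
    have h2 := Cfsg.Agent.S0962.result 11 M hM 1 (G := G)
    have hle1 : Nat.card {C : ConjClasses G // ∃ g : G, ConjClasses.mk g = C ∧ IsPRegular 11 g ∧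
        1 ≤ (Nat.card (Subgroup.centralizer ({g} : Set G))).factorization 11} ≤ 1 := by
      haveI : Subsingleton {C : ConjClasses G // ∃ g : G, ConjClasses.mk g = C ∧ IsPRegular 11 g ∧
          1 ≤ (Nat.card (Subgroup.centralizer ({g} : Set G))).factorization 11} := by
        have key : ∀ g : G, IsPRegular 11 g →
            1 ≤ (Nat.card (Subgroup.centralizer ({g} : Set G))).factorization 11 → g = 1 := by
          intro g hgr hgc
          obtain ⟨x, hx⟩ := exists_prime_orderOf_dvd_card' (G := Subgroup.centralizer ({g} : Set G)) 11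
            (Nat.dvd_of_factorization_pos (by omega))
          rw [← Subgroup.orderOf_coe] at hx
          obtain ⟨S'', hS''⟩ := (IsPGroup.of_card (p := 11) (n := 1) (G := Subgroup.zpowers (x : G))
            (by rw [Nat.card_zpowers, hx, pow_one])).exists_le_sylow
          obtain ⟨k, hk⟩ := MulAction.exists_smul_eq G S'' S
          have hxS : k * x * k⁻¹ ∈ (S : Subgroup G) := by
            rw [← hk]
            exact ⟨x, hS'' (Subgroup.mem_zpowers _), rfl⟩
          have hkC : k * g * k⁻¹ ∈ Subgroup.centralizer ((S : Subgroup G) : Set G) := by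
            have hz : (S : Subgroup G) = Subgroup.zpowers (k * x * k⁻¹) :=
              (Subgroup.eq_of_le_of_card_ge (Subgroup.zpowers_le.2 hxS) (by
                rw [hS, Nat.card_zpowers, ← MulAut.conj_apply, MulEquiv.orderOf_eq, hx])).symm
            rw [hz, Subgroup.zpowers_eq_closure, Subgroup.centralizer_closure,
              Subgroup.mem_centralizer_singleton_iff]
            have hxg := Subgroup.mem_centralizer_singleton_iff.1 x.2
            calc k * g * k⁻¹ * (k * x * k⁻¹) = k * (g * x) * k⁻¹ := by group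
              _ = k * (x * g) * k⁻¹ := by rw [hxg]
              _ = _ := by group
          have h1 := Subgroup.orderOf_dvd_natCard _ hkC
          rw [hC, ← MulAut.conj_apply, MulEquiv.orderOf_eq] at h1
          rcases (Nat.dvd_prime hp).1 h1 with h' | h'
          · exact orderOf_eq_one_iff.1 h'
          · exact absurd (dvd_of_eq h'.symm) hgr
        refine ⟨fun C C' => Subtype.ext ?_⟩
        obtain ⟨g1, hg1, hr1, hc1⟩ := C.2
        obtain ⟨g2, hg2, hr2, hc2⟩ := C'.2
        rw [← hg1, ← hg2, key g1 hr1 hc1, key g2 hr2 hc2]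
      exact Finite.card_le_one_iff_subsingleton.2 inferInstance
    have hdef : ∀ B' : Set (IrrCharacter G), ∀ φ ∈ B', ¬ 11 ∣ charDegree (φ : G → ℂ) →
        1 ≤ blockDefect 11 B' := by
      intro B' φ hφ hφd
      have h0 : sInf ((fun χ : IrrCharacter G => (charDegree (χ : G → ℂ)).factorization 11) '' B') = 0 :=
        Nat.eq_zero_of_le_zero (Nat.sInf_le ⟨φ, hφ, Nat.factorization_eq_zero_of_not_dvd hφd⟩)
      rw [blockDefect, h0, hf]
    haveI : Subsingleton {B' : Set (IrrCharacter G) // IsPBlock M B' ∧ 1 ≤ blockDefect 11 B'} :=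
      Finite.card_le_one_iff_subsingleton.1 (h2.trans hle1)
    have h3 := Subsingleton.elim
      (⟨blockOf M (χ : G → ℂ), isPBlock_blockOf χ, hdef _ χ (sameBlock_refl _) hnd⟩ :
        {B' : Set (IrrCharacter G) // IsPBlock M B' ∧ 1 ≤ blockDefect 11 B'})
      ⟨B, BrauerPairs.isPBlock_principal, hdef _ _ BrauerPairs.trivIrr_mem_principal (by
        rw [show charDegree ((BrauerPairs.trivIrr G : IrrCharacter G) : G → ℂ) = 1 from hDone]; norm_num)⟩
    have h4 : blockOf M (χ : G → ℂ) = B := congrArg Subtype.val h3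
    exact hχ (h4 ▸ sameBlock_refl _)
  -- sums over all characters reduce to the block
  have hred : ∀ f : (G → ℂ) → ℂ,
      ∑ χ ∈ irrFinset G, f χ * conj (χ s) = f (fun _ => 1) + f ψ * (-1) +
        ∑ θ' ∈ Xᶜ, f ((θ' : IrrCharacter G) : G → ℂ) * conj (((θ' : IrrCharacter G) : G → ℂ) s) := by
    intro f
    rw [← sum_subset (s₁ := (univ : Finset B).map
      ⟨fun χ : B => ((χ : IrrCharacter G) : G → ℂ), Subtype.val_injective.comp Subtype.val_injective⟩)
      (fun χ hχ => by
        obtain ⟨a, -, rfl⟩ := Finset.mem_map.1 hχ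
        exact mem_irrFinset.2 (a : IrrCharacter G).2)
      (fun χ hχ hχn => by
        rw [show χ s = 0 from h11 ⟨χ, mem_irrFinset.1 hχ⟩
          (fun h => hχn (Finset.mem_map.2 ⟨⟨⟨χ, mem_irrFinset.1 hχ⟩, h⟩, mem_univ _, rfl⟩))]
        simp), sum_map, ← sum_add_sum_compl X, hsumX]
    simp only [Function.Embedding.coeFn_mk]
    rw [show ((one : IrrCharacter G) : G → ℂ) = fun _ => (1 : ℂ) from rfl, ← hψ, hψs, map_neg, map_one, mul_one]
  have hts : ¬ IsConj (1 : G) s := fun h => E.s_ne_one (isConj_one_right.1 h)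
  have horth := sum_irr_mul_conj (1 : G) s
  rw [if_neg hts, hred fun χ => χ 1, hψ1] at horth
  have hθ1 : ∀ θ' ∈ Xᶜ, ((θ' : IrrCharacter G) : G → ℂ) 1 = 9 := fun θ' h => by
    rw [hD1, hθD θ' h, hx9]; norm_num
  rw [sum_congr rfl fun θ' h => by rw [hθ1 θ' h], ← mul_sum] at horth
  set Zs := ∑ θ' ∈ Xᶜ, conj (((θ' : IrrCharacter G) : G → ℂ) s) with hZ
  have hZ1 : Zs = 1 := by linear_combination horth / 9
  have hform := card_class_products t t s
  have hpairs := E.card_pairs (j := 1) (by norm_num) E.orderOf_t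
  rw [if_pos (IsConj.refl t), pow_one] at hpairs
  rw [hpairs, Finset.sum_congr rfl fun χ _ => (show χ t * χ t * conj (χ s) / χ 1 =
    (χ t * χ t / χ 1) * conj (χ s) by ring), hred fun χ => χ t * χ t / χ 1] at hform
  rw [sum_congr rfl fun θ' h => by rw [hθt θ' h, hθ1 θ' h], ← mul_sum, ← hZ, hZ1, ha, hψ1] at hform
  set K := Nat.card {x : G // IsConj t x} with hK
  have hN0 : (Nat.card G : ℂ) ≠ 0 := by exact_mod_cast Nat.card_pos.ne'
  field_simp at hform
  have hint : ((990 * Nat.card G : ℤ) : ℂ) = (((K : ℤ) * (10 - a)) * ((K : ℤ) * (10 - a)) : ℤ) := by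
    push_cast at hform ⊢
    linear_combination hform
  have hint' : (990 * Nat.card G : ℤ) = ((K : ℤ) * (10 - a)) * ((K : ℤ) * (10 - a)) := by exact_mod_cast hint
  refine ⟨((K : ℤ) * (10 - a)).natAbs, ?_⟩
  have := congrArg Int.natAbs hint'
  rwa [Int.natAbs_mul, Int.natAbs_mul, Int.natAbs_natCast] at this

end CfsgLib.M12Graph
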