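import Cfsg.Agent.Char.Basic
import Mathlib.Algebra.BigOperators.Field
import Mathlib.LinearAlgebra.Trace
import Mathlib.LinearAlgebra.Projection

/-!
# Irreducible constituents of a permutation module from its orbital algebra

An invariant kernel `e` on pairs of points with `E O_j = λ_j E` for every orbital matrix `O_j` cuts out an
irreducible constituent, whose degree is the normalised trace of `e`.
-/

set_option autoImplicit false
set_option linter.style.haveILetI false
set_option linter.unusedSectionVars false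

namespace CfsgLib.M12Graph

open Finset LinearMap

variable {G : Type*} [Group G] {X : Type*} [MulAction G X] [Fintype X]

variable (G X) in
/-- The permutation module. -/
def permFun : Representation ℂ G (X → ℂ) where
  toFun g := funLeft ℂ ℂ fun x : X => g⁻¹ • x
  map_one' := LinearMap.ext fun f => funext fun x => by simp [funLeft_apply]
  map_mul' g h := LinearMap.ext fun f => funext fun x => by simp [funLeft_apply, mul_smul]

theorem permFun_apply (g : G) (f : X → ℂ) (x : X) : permFun G X g f x = f (g⁻¹ • x) := rfl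

/-- An invariant kernel gives an intertwiner. -/
theorem toLin_comm [DecidableEq X] {M : Matrix X X ℂ} (hM : ∀ (g : G) a b, M (g • a) (g • b) = M a b) (g : G) :
    Matrix.toLin' M ∘ₗ permFun G X g = permFun G X g ∘ₗ Matrix.toLin' M := by
  refine LinearMap.ext fun f => funext fun a => ?_
  simp only [LinearMap.comp_apply, permFun_apply, Matrix.toLin'_apply, Matrix.mulVec, dotProduct]
  refine Fintype.sum_equiv (MulAction.toPerm g⁻¹) _ _ fun y => ?_
  simp only [MulAction.toPerm_apply]
  rw [hM]

/-- An intertwiner has an invariant kernel. -/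
theorem kernel_invariant [DecidableEq X] {q : (X → ℂ) →ₗ[ℂ] X → ℂ}
    (hq : ∀ g : G, q ∘ₗ permFun G X g = permFun G X g ∘ₗ q) (g : G) (a b : X) :
    LinearMap.toMatrix' q (g • a) (g • b) = LinearMap.toMatrix' q a b := by
  have h := congrFun (LinearMap.congr_fun (hq g) (Pi.single b 1)) (g • a)
  have hs : permFun G X g (Pi.single b 1) = Pi.single (g • b) 1 := by
    ext x
    simp only [permFun_apply, Pi.single_apply, inv_smul_eq_iff]
  simp only [LinearMap.comp_apply, hs, permFun_apply, inv_smul_smul] at h
  simpa [LinearMap.toMatrix'_apply] using h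

variable [Fintype G]

/-- **Irreducible constituents from the orbital algebra.** -/
theorem exists_irr_of_orbital {κ : Type*} [Fintype κ] [DecidableEq κ] (k : X → X → κ)
    (hk : ∀ (g : G) a b, k (g • a) (g • b) = k a b)
    (htr : ∀ a b a' b', k a b = k a' b' → ∃ g : G, g • a = a' ∧ g • b = b')
    (e lam : κ → ℤ)
    (hE : ∀ a b j, ∑ y, e (k a y) * (if k y b = j then 1 else 0) = lam j * e (k a b))
    (n : ℤ) (hn0 : n ≠ 0) (hn : ∑ j, e j * lam j = n) (d : ℕ) (hd0 : d ≠ 0)
    (hd : ∑ a, e (k a a) = n * d) : ∃ χ : G → ℂ, Cfsg.IsIrrCharacter G χ ∧ χ 1 = d := by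
  classical
  have hn' : (n : ℂ) ≠ 0 := Int.cast_ne_zero.2 hn0
  set M : Matrix X X ℂ := Matrix.of fun a b => (e (k a b) : ℂ) / n with hMdef
  have hMapp : ∀ a b, M a b = (e (k a b) : ℂ) / n := fun a b => rfl
  -- absorption of invariant kernels
  have habs : ∀ c : κ → ℂ, M * Matrix.of (fun a b => c (k a b)) = (∑ j, c j * (lam j : ℂ)) • M := by
    intro c
    ext a b
    simp only [Matrix.mul_apply, Matrix.of_apply, Matrix.smul_apply, smul_eq_mul, Finset.sum_mul]
    have h1 : ∀ y, M a y * c (k y b) = ∑ j, c j * ((e (k a y) * (if k y b = j then 1 else 0) : ℤ) : ℂ) / n := by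
      intro y
      rw [Finset.sum_eq_single (k y b)]
      · simp [hMapp]; ring
      · intro j _ hj
        simp [Ne.symm hj]
      · simp
    rw [Finset.sum_congr rfl fun y _ => h1 y, Finset.sum_comm]
    refine Finset.sum_congr rfl fun j _ => ?_
    rw [← Finset.sum_div, ← Finset.mul_sum, ← Int.cast_sum, hE a b j, hMapp]
    push_cast
    ring
  have hMM : M * M = M := by
    have h := habs fun j => (e j : ℂ) / n
    have h1 : (∑ j, (e j : ℂ) / n * (lam j : ℂ)) = 1 := by
      rw [Finset.sum_congr rfl fun j _ => (div_mul_eq_mul_div (e j : ℂ) (n : ℂ) (lam j : ℂ)), ← Finset.sum_div,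
        div_eq_one_iff_eq hn', ← hn]
      push_cast
      rfl
    rw [h1, one_smul] at h
    exact h
  set P := Matrix.toLin' M with hPdef
  have hPP : P ∘ₗ P = P := by rw [hPdef, ← Matrix.toLin'_mul, hMM]
  have hPc : ∀ g : G, P ∘ₗ permFun G X g = permFun G X g ∘ₗ P :=
    toLin_comm fun g a b => by rw [hMapp, hMapp, hk]
  set U : Submodule ℂ (X → ℂ) := range P with hUdef
  have hfix : ∀ v ∈ U, P v = v := by
    rintro _ ⟨w, rfl⟩
    exact LinearMap.congr_fun hPP w
  have hproj : IsProj U P := ⟨fun v => mem_range_self P v, hfix⟩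
  have hrank : Module.finrank ℂ U = d := by
    have h := hproj.trace
    rw [hPdef, Matrix.trace_toLin'_eq, Matrix.trace] at h
    simp only [Matrix.diag_apply, hMapp] at h
    rw [← Finset.sum_div, ← Int.cast_sum, hd] at h
    rw [Int.cast_mul, mul_div_cancel_left₀ _ hn', Int.cast_natCast] at h
    exact_mod_cast h.symm
  let σ : Representation ℂ G U :=
    { toFun := fun g => (permFun G X g).restrict fun v hv => by
        refine ⟨permFun G X g v, ?_⟩
        rw [← LinearMap.comp_apply, hPc g, LinearMap.comp_apply, hfix v hv]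
      map_one' := LinearMap.ext fun v => Subtype.ext (by simp)
      map_mul' := fun g h => LinearMap.ext fun v => Subtype.ext (by
        simp only [map_mul, Module.End.mul_apply]
        rfl) }
  haveI : Nontrivial U := Module.nontrivial_of_finrank_pos (R := ℂ) (by omega)
  haveI : σ.IsIrreducible := by
    haveI : Nontrivial (Subrepresentation σ) := by
      refine ⟨⊥, ⊤, fun h => ?_⟩
      obtain ⟨x, hx⟩ := exists_ne (0 : U)
      have hx' : x ∈ (⊥ : Subrepresentation σ).toSubmodule := by
        rw [h]
        exact Submodule.mem_top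
      exact hx ((Submodule.mem_bot ℂ).1 hx')
    refine ⟨fun W => ?_⟩
    set W' := W.toSubmodule.map U.subtype with hW'
    have hW'U : W' ≤ U := Submodule.map_subtype_le U _
    have hW'inv : ∀ (g : G) v, v ∈ W' → permFun G X g v ∈ W' := by
      rintro g _ ⟨w, hw, rfl⟩
      exact ⟨σ g w, W.apply_mem_toSubmodule g hw, rfl⟩
    obtain ⟨C, hC⟩ := W'.exists_isCompl
    set q0 : (X → ℂ) →ₗ[ℂ] X → ℂ := W'.projection C hC with hq0
    have hq0W : ∀ v, q0 v ∈ W' := fun v => Submodule.projection_apply_mem hC v
    have hq0f : ∀ v ∈ W', q0 v = v := fun v hv => Submodule.projection_apply_left hC ⟨v, hv⟩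
    set q : (X → ℂ) →ₗ[ℂ] X → ℂ :=
      (Fintype.card G : ℂ)⁻¹ • ∑ g : G, permFun G X g ∘ₗ q0 ∘ₗ permFun G X g⁻¹ with hq
    have hqW : ∀ v, q v ∈ W' := by
      intro v
      simp only [hq, LinearMap.smul_apply, LinearMap.sum_apply, LinearMap.comp_apply]
      exact W'.smul_mem _ (W'.sum_mem fun g _ => hW'inv g _ (hq0W _))
    have hqf : ∀ v ∈ W', q v = v := by
      intro v hv
      simp only [hq, LinearMap.smul_apply, LinearMap.sum_apply, LinearMap.comp_apply]
      have h1 : ∀ g : G, permFun G X g (q0 (permFun G X g⁻¹ v)) = v := fun g => by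
        rw [hq0f _ (hW'inv _ _ hv), ← Module.End.mul_apply, ← map_mul, mul_inv_cancel, map_one,
          Module.End.one_apply]
      rw [Finset.sum_congr rfl fun g _ => h1 g, Finset.sum_const, Finset.card_univ, ← Nat.cast_smul_eq_nsmul ℂ,
        smul_smul, inv_mul_cancel₀ (Nat.cast_ne_zero.2 Fintype.card_ne_zero), one_smul]
    have hqc : ∀ h : G, q ∘ₗ permFun G X h = permFun G X h ∘ₗ q := by
      intro h
      refine LinearMap.ext fun v => ?_
      simp only [hq, LinearMap.smul_apply, LinearMap.sum_apply, LinearMap.comp_apply, map_smul, map_sum]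
      congr 1
      refine Fintype.sum_equiv (Equiv.mulLeft h⁻¹) _ _ fun g => ?_
      have hsplit : ∀ (a b : G) (u : X → ℂ), permFun G X a (permFun G X b u) = permFun G X (a * b) u := fun a b u => by
        rw [map_mul, Module.End.mul_apply]
      simp only [Equiv.coe_mulLeft, hsplit, mul_inv_cancel_left, mul_inv_rev, inv_inv]
    -- the composite with the projection is a scalar multiple of the projection
    set R := q ∘ₗ P with hR
    have hRc : ∀ g : G, R ∘ₗ permFun G X g = permFun G X g ∘ₗ R := fun g => by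
      rw [hR, LinearMap.comp_assoc, hPc, ← LinearMap.comp_assoc, hqc, LinearMap.comp_assoc]
    have hinv := kernel_invariant hRc
    obtain ⟨c, hc⟩ : ∃ c : κ → ℂ, LinearMap.toMatrix' R = Matrix.of fun a b => c (k a b) := by
      refine ⟨fun j => if h : ∃ p : X × X, k p.1 p.2 = j then LinearMap.toMatrix' R h.choose.1 h.choose.2 else 0,
        ?_⟩
      ext a b
      have h : ∃ p : X × X, k p.1 p.2 = k a b := ⟨(a, b), rfl⟩
      simp only [Matrix.of_apply]
      rw [dif_pos h]
      obtain ⟨g, hga, hgb⟩ := htr _ _ _ _ h.choose_spec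
      have h2 := hinv g h.choose.1 h.choose.2
      rw [hga, hgb] at h2
      exact h2
    have hPR : P ∘ₗ R = R := LinearMap.ext fun v => hfix _ (hW'U (hqW (P v)))
    obtain ⟨μ, hμ⟩ : ∃ μ : ℂ, R = μ • P := by
      refine ⟨∑ j, c j * (lam j : ℂ), ?_⟩
      rw [← hPR, hPdef, ← Matrix.toLin'_toMatrix' R, hc, ← Matrix.toLin'_mul, habs, map_smul]
    have hRfix : ∀ v ∈ W', R v = v := fun v hv => by
      rw [hR, LinearMap.comp_apply, hfix v (hW'U hv), hqf v hv]
    by_cases hμ0 : μ = 0
    · refine Or.inl (Subrepresentation.toSubmodule_injective ?_)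
      refine (Submodule.eq_bot_iff _).2 fun w hw => ?_
      have h := hRfix _ ⟨w, hw, rfl⟩
      rw [hμ, hμ0, zero_smul, LinearMap.zero_apply] at h
      exact Subtype.ext h.symm
    · refine Or.inr (Subrepresentation.toSubmodule_injective ?_)
      refine Submodule.eq_top_iff'.2 fun w => ?_
      have h : R w.1 ∈ W' := hqW _
      rw [hμ, LinearMap.smul_apply, hfix w.1 w.2] at h
      obtain ⟨w', hw', e'⟩ := (W'.smul_mem_iff hμ0).1 h
      exact Subtype.ext (a1 := w') (a2 := w) e' ▸ hw'
  refine ⟨σ.character, Char.isIrrCharacter_character σ, ?_⟩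
  rw [Representation.char_one, hrank]

end CfsgLib.M12Graph
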