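import Cfsg.Agent.M12Graph.HexData
import Cfsg.Agent.M12Graph.OrbitAlgebra
import Cfsg.Agent.Multiplier.M12Cover
import Cfsg.Agent.Steiner.Small
import Cfsg.Agent.SmallDegreeGraph.Tools
import Cfsg.Prelude.Def_Spor_Mathieu

/-!
# Degrees 55 and 99 of the Mathieu group of degree twelve

Both are constituents of the permutation module on three-sets, cut out by the orbital algebra.
-/

set_option autoImplicit false
set_option linter.style.haveILetI false
set_option maxRecDepth 100000

namespace CfsgLib.M12Graph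

open Finset Cfsg CfsgLib.Steiner CfsgLib.Steiner.Twelve

/-- The automorphisms of the standard hexads. -/
abbrev Aut12 : Subgroup (Equiv.Perm (Fin 12)) := setSystemAut stdSet

/-- The three-sets. -/
abbrev Tri := {s : Finset (Fin 12) // s.card = 3}

instance : MulAction Aut12 Tri where
  smul g s := ⟨s.1.image (g : Equiv.Perm (Fin 12)), (card_image_of_injective _ (Equiv.injective _)).trans s.2⟩
  one_smul s := Subtype.ext (by show s.1.image ((1 : Aut12) : Equiv.Perm (Fin 12)) = s.1; simp)
  mul_smul g h s := Subtype.ext (by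
    show s.1.image ((g * h : Aut12) : Equiv.Perm (Fin 12)) = (s.1.image (h : Equiv.Perm (Fin 12))).image g
    rw [image_image]
    rfl)

theorem smul_val (g : Aut12) (s : Tri) : (g • s).1 = s.1.image (g : Equiv.Perm (Fin 12)) := rfl

/-- The number of bits. -/
def popc (z : ℕ) : ℕ := ((List.range 12).filter z.testBit).length

theorem popc_eq : ∀ a < 64, ∀ b < 64, (pts (64 * a + b)).card = popc (64 * a + b) := by decide +kernel

theorem card_pts {z : ℕ} (hz : z < 4096) : (pts z).card = popc z := by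
  have h := popc_eq (z / 64) (by omega) (z % 64) (by omega)
  rwa [show 64 * (z / 64) + z % 64 = z by omega] at h

/-- The five kinds of pairs of masks. -/
def kk (x y : ℕ) : Fin 5 :=
  match popc (x &&& y) with
  | 3 => 0
  | 2 => 1
  | 1 => 2
  | _ => if std.contains (x ||| y) then 3 else 4

/-- The kind of a pair of three-sets. -/
noncomputable def kind (a b : Tri) : Fin 5 := kk (mask a.1) (mask b.1)

theorem tri_ok : tri.length = 220 ∧ tri.Nodup ∧ ∀ m ∈ tri, m < 4096 ∧ (pts m).card = 3 := by decide +kernel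

/-- The three-set of an index. -/
def triAt (i : Fin 220) : Tri :=
  ⟨pts (tri.getD i 0), by
    rw [List.getD_eq_getElem _ _ (by rw [tri_ok.1]; exact i.2)]
    exact (tri_ok.2.2 _ (List.getElem_mem _)).2⟩

theorem mask_triAt (i : Fin 220) : mask (triAt i).1 = tri.getD i 0 := by
  refine pts_mask_list _ ?_
  rw [List.getD_eq_getElem _ _ (by rw [tri_ok.1]; exact i.2)]
  exact (tri_ok.2.2 _ (List.getElem_mem _)).1

theorem triAt_bijective : Function.Bijective triAt := by
  refine (Fintype.bijective_iff_injective_and_card _).2 ⟨fun i j h => ?_, ?_⟩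
  · have h' := congrArg (fun t : Tri => mask t.1) h
    simp only [mask_triAt] at h'
    rw [List.getD_eq_getElem _ _ (by rw [tri_ok.1]; exact i.2),
      List.getD_eq_getElem _ _ (by rw [tri_ok.1]; exact j.2)] at h'
    exact Fin.ext ((tri_ok.2.1.getElem_inj_iff).1 h')
  · rw [Fintype.card_fin, Fintype.card_finset_len, Fintype.card_fin]
    rfl

theorem union_pts (x y : ℕ) : pts x ∪ pts y = pts (x ||| y) := by ext i; simp [pts]

theorem inter_pts (x y : ℕ) : pts x ∩ pts y = pts (x &&& y) := by ext i; simp [pts]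

theorem mask_union (a b : Finset (Fin 12)) : mask (a ∪ b) = mask a ||| mask b := by
  conv_lhs => rw [← pts_mask a, ← pts_mask b, union_pts]
  exact pts_mask_list _ (Nat.or_lt_two_pow (n := 12) (mask_lt a) (mask_lt b))

theorem popc_inter (a b : Finset (Fin 12)) : popc (mask a &&& mask b) = (a ∩ b).card := by
  conv_rhs => rw [← pts_mask a, ← pts_mask b, inter_pts]
  exact (card_pts (Nat.lt_of_le_of_lt Nat.and_le_left (mask_lt a))).symm

theorem mem_stdSet_iff (s : Finset (Fin 12)) : s ∈ stdSet ↔ mask s ∈ std := by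
  constructor
  · intro h
    obtain ⟨m, hm, rfl⟩ := List.mem_map.1 (List.mem_toFinset.1 h)
    rwa [pts_mask_list m (std_lt m hm)]
  · intro h
    exact List.mem_toFinset.2 (List.mem_map.2 ⟨_, h, pts_mask s⟩)

theorem kind_smul (g : Aut12) (a b : Tri) : kind (g • a) (g • b) = kind a b := by
  have hi : popc (mask (g • a).1 &&& mask (g • b).1) = popc (mask a.1 &&& mask b.1) := by
    rw [popc_inter, popc_inter, smul_val, smul_val, ← image_inter _ _ (Equiv.injective _),
      card_image_of_injective _ (Equiv.injective _)]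
  have hu : std.contains (mask (g • a).1 ||| mask (g • b).1) = std.contains (mask a.1 ||| mask b.1) := by
    rw [Bool.eq_iff_iff, List.contains_iff_mem, List.contains_iff_mem, ← mask_union, ← mask_union,
      ← mem_stdSet_iff, ← mem_stdSet_iff, smul_val, smul_val, ← image_union]
    refine ⟨fun h => ?_, fun h => mem_aut_iff.1 g.2 _ h⟩
    have h1 := mem_aut_iff.1 (inv_mem g.2) _ h
    rw [image_image, show ⇑((g : Equiv.Perm (Fin 12))⁻¹) ∘ ⇑(g : Equiv.Perm (Fin 12)) = id from
      funext fun x => Equiv.symm_apply_apply _ x, image_id] at h1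
    exact h1
  unfold kind kk
  rw [hi, hu]

/-- A permutation from a table and its inverse table. -/
def gperm (k : ℕ) : Equiv.Perm (Fin 12) :=
  if h : (∀ p : Fin 12, Fin.ofNat 12 ((gens.getD k ([], [])).2.getD
        (Fin.ofNat 12 ((gens.getD k ([], [])).1.getD p 0)).1 0) = p) ∧
      ∀ p : Fin 12, Fin.ofNat 12 ((gens.getD k ([], [])).1.getD
        (Fin.ofNat 12 ((gens.getD k ([], [])).2.getD p 0)).1 0) = p then
    ⟨fun p => Fin.ofNat 12 ((gens.getD k ([], [])).1.getD p 0),
      fun p => Fin.ofNat 12 ((gens.getD k ([], [])).2.getD p 0), h.1, h.2⟩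
  else 1

/-- The permutation of a word. -/
def wperm (w : List ℕ) : Equiv.Perm (Fin 12) := (w.map gperm).prod

theorem gperm_std : ∀ k < 4, ∀ m ∈ std, mask ((pts m).image (gperm k)) ∈ std := by decide +kernel

theorem gperm_mem (k : ℕ) (hk : k < 4) : gperm k ∈ Aut12 := by
  refine mem_aut_iff.2 fun b hb => ?_
  rw [mem_stdSet_iff] at hb ⊢
  have h := gperm_std k hk _ hb
  rwa [pts_mask] at h

theorem wperm_mem {w : List ℕ} (hw : ∀ k ∈ w, k < 4) : wperm w ∈ Aut12 :=
  list_prod_mem fun x hx => by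
    obtain ⟨k, hk, rfl⟩ := List.mem_map.1 hx
    exact gperm_mem k (hw k hk)

/-- The representatives of the kinds, over the first three-set. -/
def repI : Fin 5 → Fin 220 := ![0, 1, 7, 19, 29]

theorem wordsA_ok : ∀ i : Fin 220, (∀ k ∈ wordsA.getD i [], k < 4) ∧
    mask ((triAt 0).1.image (wperm (wordsA.getD i []))) = tri.getD i 0 := by decide +kernel

theorem wordsB_ok : ∀ i : Fin 220, (∀ k ∈ wordsB.getD i [], k < 4) ∧
    mask ((triAt 0).1.image (wperm (wordsB.getD i []))) = tri.getD 0 0 ∧
    mask ((triAt (repI (kk (tri.getD 0 0) (tri.getD i 0)))).1.image (wperm (wordsB.getD i []))) = tri.getD i 0 := by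
  decide +kernel

theorem eq_of_mask {s t : Finset (Fin 12)} (h : mask s = mask t) : s = t := by
  rw [← pts_mask s, h, pts_mask]

theorem exists_base (a : Tri) : ∃ g : Aut12, g • triAt 0 = a := by
  obtain ⟨i, rfl⟩ := triAt_bijective.2 a
  obtain ⟨h1, h2⟩ := wordsA_ok i
  refine ⟨⟨_, wperm_mem h1⟩, Subtype.ext (eq_of_mask ?_)⟩
  rw [smul_val, mask_triAt]
  exact h2

theorem exists_normal (a b : Tri) : ∃ g : Aut12, g • triAt 0 = a ∧ g • triAt (repI (kind a b)) = b := by
  obtain ⟨g, rfl⟩ := exists_base a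
  obtain ⟨i, hi⟩ := triAt_bijective.2 (g⁻¹ • b)
  obtain ⟨h1, h2, h3⟩ := wordsB_ok i
  have hk : kind (g • triAt 0) b = kk (tri.getD 0 0) (tri.getD i 0) := by
    rw [← smul_inv_smul g b, kind_smul, ← hi, kind, mask_triAt, mask_triAt]
    rfl
  set v : Aut12 := ⟨_, wperm_mem h1⟩ with hv
  have e1 : v • triAt 0 = triAt 0 := Subtype.ext (eq_of_mask (by rw [smul_val, mask_triAt]; exact h2))
  have e2 : v • triAt (repI (kk (tri.getD 0 0) (tri.getD i 0))) = triAt i :=
    Subtype.ext (eq_of_mask (by rw [smul_val, mask_triAt]; exact h3))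
  refine ⟨g * v, ?_, ?_⟩
  · rw [mul_smul, e1]
  · rw [hk, mul_smul, e2, hi, smul_inv_smul]

theorem kind_transitive (a b a' b' : Tri) (h : kind a b = kind a' b') :
    ∃ g : Aut12, g • a = a' ∧ g • b = b' := by
  obtain ⟨g, h1, h2⟩ := exists_normal a b
  obtain ⟨g', h1', h2'⟩ := exists_normal a' b'
  refine ⟨g' * g⁻¹, ?_, ?_⟩
  · conv_lhs => rw [← h1]
    rw [mul_smul, inv_smul_smul, h1']
  · conv_lhs => rw [← h2]
    rw [mul_smul, inv_smul_smul, h, h2']

theorem kind_reps : ∀ j : Fin 5, kk (tri.getD 0 0) (tri.getD (repI j) 0) = j := by decide +kernel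

theorem kind_self : ∀ i : Fin 220, kk (tri.getD i 0) (tri.getD i 0) = 0 := by decide +kernel

/-- The kernel of the constituent of degree 99. -/
def e99 : Fin 5 → ℤ := ![36, -4, 1, -9, 1]

/-- Its eigenvalues on the orbital matrices. -/
def l99 : Fin 5 → ℤ := ![1, -3, 3, -3, 2]

/-- The kernel of the constituent of degree 55. -/
def e55 : Fin 5 → ℤ := ![36, -4, 1, 15, -3]

/-- Its eigenvalues on the orbital matrices. -/
def l55 : Fin 5 → ℤ := ![1, -3, 3, 5, -6]

theorem absorb99 : ∀ i j : Fin 5, (∑ y : Fin 220, e99 (kk (tri.getD 0 0) (tri.getD y 0)) *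
    (if kk (tri.getD y 0) (tri.getD (repI i) 0) = j then 1 else 0)) = l99 j * e99 i := by decide +kernel

theorem absorb55 : ∀ i j : Fin 5, (∑ y : Fin 220, e55 (kk (tri.getD 0 0) (tri.getD y 0)) *
    (if kk (tri.getD y 0) (tri.getD (repI i) 0) = j then 1 else 0)) = l55 j * e55 i := by decide +kernel

theorem exists_degree_aut (e lam : Fin 5 → ℤ)
    (habs : ∀ i j : Fin 5, (∑ y : Fin 220, e (kk (tri.getD 0 0) (tri.getD y 0)) *
      (if kk (tri.getD y 0) (tri.getD (repI i) 0) = j then 1 else 0)) = lam j * e i)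
    (n : ℤ) (hn0 : n ≠ 0) (hn : ∑ j, e j * lam j = n) (d : ℕ) (hd0 : d ≠ 0) (hd : 220 * e 0 = n * d) :
    d ∈ Cfsg.charDegrees Aut12 := by
  classical
  haveI := Fintype.ofFinite Aut12
  have hE : ∀ a b j, ∑ y, e (kind a y) * (if kind y b = j then 1 else 0) = lam j * e (kind a b) := by
    intro a b j
    obtain ⟨g, h1, h2⟩ := exists_normal a b
    have hs : ∑ y, e (kind a y) * (if kind y b = j then 1 else 0) =
        ∑ y, e (kind (triAt 0) y) * (if kind y (triAt (repI (kind a b))) = j then 1 else 0) := by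
      refine (Fintype.sum_equiv (MulAction.toPerm g) _ _ fun y => ?_).symm
      simp only [MulAction.toPerm_apply]
      conv_rhs => rw [← h2]
      rw [← h1, kind_smul, kind_smul]
    rw [hs, ← Fintype.sum_bijective triAt triAt_bijective _ _ fun y => rfl]
    simp only [kind, mask_triAt]
    exact habs _ j
  have hdiag : ∀ a, kind a a = 0 := by
    intro a
    obtain ⟨i, rfl⟩ := triAt_bijective.2 a
    rw [kind, mask_triAt]
    exact kind_self i
  obtain ⟨χ, hχ, h1⟩ := exists_irr_of_orbital kind kind_smul kind_transitive e lam hE n hn0 hn d hd0 (by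
    simp only [hdiag, Finset.sum_const, Finset.card_univ, nsmul_eq_mul]
    rw [← hd, Fintype.card_finset_len, Fintype.card_fin]
    rfl)
  exact CfsgLib.SmallDegreeGraph.mem_charDegrees hχ h1

theorem charDegrees_m12 : 55 ∈ Cfsg.charDegrees Spor.M12 ∧ 99 ∈ Cfsg.charDegrees Spor.M12 := by
  obtain ⟨φ⟩ := CfsgLib.Multiplier.M12.exists_iso
  obtain ⟨e, he⟩ := exists_iso_std CfsgLib.Tern.hexSet_steiner (by rfl)
  rw [← CfsgLib.SmallDegreeGraph.charDegrees_congr ((autEquiv e he).symm.trans φ)]
  exact ⟨exists_degree_aut e55 l55 absorb55 144 (by norm_num) (by decide +kernel) 55 (by norm_num) (by decide +kernel),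
    exists_degree_aut e99 l99 absorb99 80 (by norm_num) (by decide +kernel) 99 (by norm_num) (by decide +kernel)⟩

end CfsgLib.M12Graph
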