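import Cfsg.Agent.M12Graph.Block
import Cfsg.Agent.SmallSimple.FixedPoints
import Cfsg.Agent.SmallDegreeGraph.Engine

/-!
# The action on the Sylow 11-subgroups

In a simple group with 144 Sylow 11-subgroups the normalizer is maximal as soon as the centralizer is
larger than the subgroup; this forces the centralizer to be small.
-/

set_option autoImplicit false
set_option linter.style.haveILetI false
set_option linter.unusedSectionVars false

namespace CfsgLib.M12Graph

open Subgroup MulAction CfsgLib.FixedPoints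

variable {G : Type*} [Group G] [Finite G]

theorem comm_of_card_prime {A : Subgroup G} (hA : Nat.card A = 11) : A ≤ centralizer (A : Set G) := by
  haveI : IsCyclic A := isCyclic_of_prime_card hA
  exact fun a ha => mem_centralizer_iff.2 fun b hb =>
    congrArg Subtype.val ((IsCyclic.commGroup (α := A)).mul_comm ⟨b, hb⟩ ⟨a, ha⟩)

theorem zpowers_eq_of_mem_sylow {A : Subgroup G} (hA : Nat.card A = 11) {x : G} (hx : x ∈ A) (h1 : x ≠ 1) :
    zpowers x = A ∧ orderOf x = 11 := by
  have ho : orderOf x = 11 :=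
    ((Nat.dvd_prime (by norm_num)).1 (hA ▸ orderOf_dvd_natCard A hx)).resolve_left (by simpa using h1)
  exact ⟨eq_of_le_of_card_ge (zpowers_le.2 hx) (by rw [hA, Nat.card_zpowers, ho]), ho⟩

theorem exists_sylow_gen (P : Sylow 11 G) (hP : Nat.card (P : Subgroup G) = 11) :
    ∃ x ∈ (P : Subgroup G), orderOf x = 11 ∧ zpowers x = (P : Subgroup G) := by
  obtain ⟨x, hx⟩ := exists_prime_orderOf_dvd_card' (G := (P : Subgroup G)) 11 (by rw [hP])
  have ho : orderOf (x : G) = 11 := (Subgroup.orderOf_coe x).trans hx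
  exact ⟨x, x.2, ho, (zpowers_eq_of_mem_sylow hP x.2 fun h => by rw [h, orderOf_one] at ho; omega).1⟩

/-- The only Sylow subgroup fixed by a nontrivial element. -/
theorem sylow_eq_of_fixed (hP11 : ∀ R : Sylow 11 G, Nat.card (R : Subgroup G) = 11) {P Q : Sylow 11 G} {x : G}
    (hx : x ∈ (P : Subgroup G)) (h1 : x ≠ 1) (hfix : x • Q = Q) : Q = P := by
  obtain ⟨hz, ho⟩ := zpowers_eq_of_mem_sylow (hP11 P) hx h1
  have hQ : x ∈ (Q : Subgroup G) :=
    CfsgLib.SmallSimple.mem_sylow_of_smul_eq (n := 1) (by rw [pow_one, ← ho, pow_orderOf_eq_one]) Q hfix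
  exact Sylow.ext ((zpowers_eq_of_mem_sylow (hP11 Q) hQ h1).1.symm.trans hz)

/-- An element normalising but not centralising fixes at most one point of each orbit. -/
theorem fixed_bound (hP11 : ∀ R : Sylow 11 G, Nat.card (R : Subgroup G) = 11) (P : Sylow 11 G) {g : G}
    (hg : g ∈ normalizer ((P : Subgroup G) : Set G)) (hgc : g ∉ centralizer ((P : Subgroup G) : Set G)) :
    11 * (Nat.card {Q : Sylow 11 G // g • Q = Q} - 1) ≤ Nat.card (Sylow 11 G) - 1 := by
  classical
  haveI := Fintype.ofFinite (Sylow 11 G)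
  haveI := Fintype.ofFinite (P : Subgroup G)
  set F := Finset.univ.filter fun Q : Sylow 11 G => g • Q = Q with hF
  have hFc : Nat.card {Q : Sylow 11 G // g • Q = Q} = F.card := by
    rw [Nat.card_eq_fintype_card, Fintype.card_subtype]
  have hPF : P ∈ F := Finset.mem_filter.2 ⟨Finset.mem_univ _, Sylow.smul_eq_iff_mem_normalizer.2 hg⟩
  have key : ((Finset.univ : Finset (P : Subgroup G)) ×ˢ F.erase P).card ≤
      ((Finset.univ : Finset (Sylow 11 G)).erase P).card := by
    refine Finset.card_le_card_of_injOn (fun a => (a.1 : G) • a.2) (fun a ha => ?_) ?_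
    · simp only [Finset.coe_product, Set.mem_prod, Finset.mem_coe, Finset.mem_erase] at ha
      refine Finset.mem_erase.2 ⟨fun h => ha.2.1 ?_, Finset.mem_univ _⟩
      have hxP : (a.1 : G) • P = P := Sylow.smul_eq_iff_mem_normalizer.2 (le_normalizer a.1.2)
      exact MulAction.injective (a.1 : G) (h.trans hxP.symm)
    · rintro ⟨x, Q⟩ ha ⟨x', Q'⟩ ha' h
      simp only [Finset.coe_product, Set.mem_prod, Finset.mem_coe, Finset.mem_erase, hF, Finset.mem_filter,
        Finset.mem_univ, true_and] at ha ha'
      simp only at h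
      set u : G := (x' : G)⁻¹ * x with hu
      have huP : u ∈ (P : Subgroup G) := mul_mem (inv_mem x'.2) x.2
      have huQ : u • Q = Q' := by rw [hu, mul_smul, h, inv_smul_smul]
      have hfix : (u⁻¹ * (g * u * g⁻¹)) • Q = Q := by
        have hgQ : g⁻¹ • Q = Q := inv_smul_eq_iff.2 ha.2.symm
        rw [mul_smul, mul_smul, mul_smul, hgQ, huQ, ha'.2, ← huQ, inv_smul_smul]
      have h1 : u⁻¹ * (g * u * g⁻¹) = 1 := by
        by_contra h1
        exact ha.1 (sylow_eq_of_fixed hP11 (mul_mem (inv_mem huP) ((mem_normalizer_iff.1 hg u).1 huP)) h1 hfix)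
      have hu1 : u = 1 := by
        by_contra hu1
        refine hgc ?_
        rw [← (zpowers_eq_of_mem_sylow (hP11 P) huP hu1).1, zpowers_eq_closure, centralizer_closure,
          mem_centralizer_singleton_iff]
        exact mul_inv_eq_iff_eq_mul.1 (inv_mul_eq_one.1 h1).symm
      have hxx : x = x' := Subtype.ext (inv_mul_eq_one.1 hu1).symm
      rw [hu1, one_smul] at huQ
      rw [hxx, huQ]
  rw [Finset.card_product, Finset.card_univ, ← Nat.card_eq_fintype_card, hP11 P, Finset.card_erase_of_mem hPF,
    Finset.card_erase_of_mem (Finset.mem_univ _), Finset.card_univ, ← Nat.card_eq_fintype_card] at key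
  rwa [hFc]

variable [IsSimpleGroup G]

/-- In an action on twelve points nothing commutes with an element of order eleven. -/
theorem eq_one_of_index_twelve {H : Subgroup G} (hH : H.index = 12) {x : G} (hx : orderOf x = 11)
    (hxH : x ∈ H) {y : G} (hyH : y ∈ H) (hxy : Commute y x) {q : ℕ} (hq : q.Prime) (hq11 : q ≠ 11)
    (hyq : y ^ q = 1) : y = 1 := by
  classical
  haveI := Fintype.ofFinite (G ⧸ H)
  have hHtop : H ≠ ⊤ := fun h => by rw [h, index_top] at hH; omega
  have hcard : Fintype.card (G ⧸ H) = 12 := by rw [← Nat.card_eq_fintype_card, ← index_eq_card, hH]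
  set base : G ⧸ H := ((1 : G) : G ⧸ H)
  have hfix : ∀ v ∈ H, v • base = base := fun v hv => by
    rw [MulAction.Quotient.smul_coe, QuotientGroup.eq, smul_eq_mul, mul_one, mul_one, H.inv_mem_iff]
    exact hv
  have hF : ∀ c : G ⧸ H, x • c = c → c = base := by
    have h1 := card_fixed_modEq (q := 11) (v := x) (by rw [← hx, pow_orderOf_eq_one]) (G ⧸ H)
    rw [← index_eq_card, hH] at h1
    have hlt : Nat.card {c : G ⧸ H // x • c = c} < 12 := by
      refine lt_of_le_of_ne ((Finite.card_subtype_le _).trans (by rw [← index_eq_card, hH])) fun h => ?_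
      have := eq_one_of_fixed hHtop (by rw [h, ← index_eq_card, hH])
      rw [this, orderOf_one] at hx
      omega
    have hone : Nat.card {c : G ⧸ H // x • c = c} ≤ 1 := by omega
    haveI := Finite.card_le_one_iff_subsingleton.1 hone
    intro c hc
    exact congrArg Subtype.val (Subsingleton.elim (⟨c, hc⟩ : {c : G ⧸ H // x • c = c}) ⟨base, hfix x hxH⟩)
  refine eq_one_of_fixed hHtop ?_
  rw [Nat.card_congr (Equiv.subtypeUnivEquiv fun c => ?_)]
  by_cases hc : c = base
  · rw [hc, hfix y hyH]
  have hper : ∀ m : ℕ, x ^ m • c = c → 11 ∣ m := by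
    intro m hm
    by_contra hd
    obtain ⟨i, hi⟩ := exists_pow_eq_self_of_coprime (x := x) (n := m)
      (by rw [hx]; exact (((by norm_num : Nat.Prime 11)).coprime_iff_not_dvd.2 hd).symm)
    refine hc (hF c ?_)
    rw [← hi]
    clear hi
    induction i with
    | zero => rw [pow_zero, one_smul]
    | succ i ih => rw [pow_succ, mul_smul, hm, ih]
  set f : Fin 11 → G ⧸ H := fun i => x ^ (i : ℕ) • c with hf
  have hinj : Function.Injective f := by
    have key : ∀ i j : Fin 11, i ≤ j → f i = f j → i = j := by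
      intro i j hij h
      have hle : (i : ℕ) ≤ j := hij
      have h2 : x ^ ((j : ℕ) - i) • c = c := by
        refine MulAction.injective (x ^ (i : ℕ)) ?_
        show x ^ (i : ℕ) • (x ^ ((j : ℕ) - i) • c) = x ^ (i : ℕ) • c
        rw [← mul_smul, ← pow_add, Nat.add_sub_cancel' hle]
        exact h.symm
      have := hper _ h2
      ext
      omega
    intro i j h
    rcases le_total i j with hij | hij
    · exact key i j hij h
    · exact (key j i hij h.symm).symm
  have hbase : ∀ v : G, Commute v x → v • c = base → False := fun v hv h => hc (hF c (by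
    have : x • base = base := hfix x hxH
    rw [← h, ← mul_smul, ← hv.eq, mul_smul] at this
    exact MulAction.injective v this))
  have him : Finset.univ.image f = Finset.univ.erase base := by
    refine Finset.eq_of_subset_of_card_le (fun d hd => ?_) ?_
    · obtain ⟨i, -, rfl⟩ := Finset.mem_image.1 hd
      exact Finset.mem_erase.2 ⟨fun h => hbase _ (Commute.pow_self x i) h, Finset.mem_univ _⟩
    · rw [Finset.card_image_of_injective _ hinj, Finset.card_erase_of_mem (Finset.mem_univ _), Finset.card_univ,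
        hcard, Finset.card_univ, Fintype.card_fin]
  have hyc : y • c ∈ Finset.univ.image f :=
    him ▸ Finset.mem_erase.2 ⟨fun h => hbase y hxy h, Finset.mem_univ _⟩
  obtain ⟨i, -, hi⟩ := Finset.mem_image.1 hyc
  have hpow : ∀ m : ℕ, y ^ m • c = x ^ ((i : ℕ) * m) • c := by
    intro m
    induction m with
    | zero => simp
    | succ m ih =>
      rw [pow_succ', mul_smul, ih, ← mul_smul, (hxy.pow_right _).eq, mul_smul, ← hi, hf, ← mul_smul, ← pow_add,
        Nat.mul_succ]
  have h2 := hpow q
  rw [hyq, one_smul] at h2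
  rcases (show Nat.Prime 11 by norm_num).dvd_mul.1 (hper _ h2.symm) with h3 | h3
  · rw [← hi, hf]
    simp only
    rw [show (i : ℕ) = 0 by omega, pow_zero, one_smul]
  · exact absurd ((Nat.prime_dvd_prime_iff_eq (by norm_num) hq).1 h3).symm hq11

variable (hP11 : ∀ R : Sylow 11 G, Nat.card (R : Subgroup G) = 11) (h144 : Nat.card (Sylow 11 G) = 144)
include hP11 h144

/-- The normalizer is maximal when the centralizer is larger than the Sylow subgroup. -/
theorem normalizer_eq_of_le (hsq : ¬ 11 ^ 2 ∣ Nat.card G) (P : Sylow 11 G) {H : Subgroup G}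
    (hle : normalizer ((P : Subgroup G) : Set G) ≤ H) (hH : H ≠ ⊤) {s : G}
    (hs : s ∈ centralizer ((P : Subgroup G) : Set G)) {q : ℕ} (hq : q.Prime) (hq11 : q ≠ 11)
    (hsq' : orderOf s = q) : H = normalizer ((P : Subgroup G) : Set G) := by
  obtain ⟨x, hxP, hx, hz⟩ := exists_sylow_gen P (hP11 P)
  obtain ⟨k, hk, hkH⟩ := exists_count hsq hx (H := H) (hle (le_normalizer hxP))
  rw [hz, inf_eq_left.2 hle] at hkH
  have hn := CfsgLib.SmallSimple.card_sylow_mul P
  rw [h144] at hn
  have hdvd : k ∣ 144 := by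
    have h := card_subgroup_dvd_card H
    rw [hkH, ← hn] at h
    exact Nat.dvd_of_mul_dvd_mul_right Nat.card_pos h
  have hcases : ∀ k : Fin 145, k.1 ∣ 144 → k.1 % 11 = 1 → k.1 = 1 ∨ k.1 = 12 ∨ k.1 = 144 := by decide +kernel
  rcases hcases ⟨k, Nat.lt_succ_of_le (Nat.le_of_dvd (by norm_num) hdvd)⟩ hdvd hk with h | h | h <;>
    simp only at h
  · exact (eq_of_le_of_card_ge hle (by rw [hkH, h, one_mul])).symm
  · exfalso
    have hi : H.index = 12 := by
      have h1 := H.card_mul_index
      rw [hkH, h, ← hn] at h1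
      refine Nat.eq_of_mul_eq_mul_left (n := 12 * Nat.card (normalizer ((P : Subgroup G) : Set G)))
        (Nat.mul_pos (by norm_num) Nat.card_pos) ?_
      rw [h1]
      ring
    have h1 := eq_one_of_index_twelve hi hx (hle (le_normalizer hxP)) (y := s)
      (hle (centralizer_le_normalizer _ hs)) (mem_centralizer_iff.1 hs x hxP).symm hq hq11
      (by rw [← hsq', pow_orderOf_eq_one])
    rw [h1, orderOf_one] at hsq'
    exact hq.one_lt.ne hsq'
  · exact absurd ((card_eq_iff_eq_top H).1 (by rw [hkH, h, hn])) hH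

end CfsgLib.M12Graph
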