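import Mathlib.Data.List.Basic

/-!
# Certificates for the action of the automorphisms of the standard hexads on three-sets

Generators as tables with inverse tables, and words reaching every three-set.
-/

set_option autoImplicit false

namespace CfsgLib.M12Graph

/-- The three-sets as masks. -/
def tri : List ℕ :=
  [7, 11, 13, 14, 19, 21, 22, 25, 26, 28, 35, 37, 38, 41, 42, 44, 49, 50,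
    52, 56, 67, 69, 70, 73, 74, 76, 81, 82, 84, 88, 97, 98, 100, 104, 112, 131,
    133, 134, 137, 138, 140, 145, 146, 148, 152, 161, 162, 164, 168, 176, 193, 194, 196, 200,
    208, 224, 259, 261, 262, 265, 266, 268, 273, 274, 276, 280, 289, 290, 292, 296, 304, 321,
    322, 324, 328, 336, 352, 385, 386, 388, 392, 400, 416, 448, 515, 517, 518, 521, 522, 524,
    529, 530, 532, 536, 545, 546, 548, 552, 560, 577, 578, 580, 584, 592, 608, 641, 642, 644,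
    648, 656, 672, 704, 769, 770, 772, 776, 784, 800, 832, 896, 1027, 1029, 1030, 1033, 1034, 1036,
    1041, 1042, 1044, 1048, 1057, 1058, 1060, 1064, 1072, 1089, 1090, 1092, 1096, 1104, 1120, 1153, 1154, 1156,
    1160, 1168, 1184, 1216, 1281, 1282, 1284, 1288, 1296, 1312, 1344, 1408, 1537, 1538, 1540, 1544, 1552, 1568,
    1600, 1664, 1792, 2051, 2053, 2054, 2057, 2058, 2060, 2065, 2066, 2068, 2072, 2081, 2082, 2084, 2088, 2096,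
    2113, 2114, 2116, 2120, 2128, 2144, 2177, 2178, 2180, 2184, 2192, 2208, 2240, 2305, 2306, 2308, 2312, 2320,
    2336, 2368, 2432, 2561, 2562, 2564, 2568, 2576, 2592, 2624, 2688, 2816, 3073, 3074, 3076, 3080, 3088, 3104,
    3136, 3200, 3328, 3584]

/-- Generators: table and inverse table. -/
def gens : List (List ℕ × List ℕ) :=
  [([2, 9, 1, 4, 10, 8, 3, 0, 6, 11, 5, 7], [7, 2, 0, 6, 3, 10, 8, 11, 5, 1, 4, 9]),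
   ([7, 11, 10, 6, 3, 4, 0, 5, 9, 1, 8, 2], [6, 9, 11, 4, 5, 7, 3, 0, 10, 8, 2, 1]),
   ([1, 2, 0, 3, 7, 11, 9, 8, 5, 6, 4, 10], [2, 0, 1, 3, 10, 8, 9, 4, 7, 6, 11, 5]),
   ([0, 2, 1, 7, 4, 9, 3, 8, 10, 11, 5, 6], [0, 2, 1, 6, 4, 10, 11, 3, 7, 5, 8, 9])]

/-- Words moving the first three-set to the others. -/
def wordsA : List (List ℕ) :=
  [[], [0, 0, 0, 0, 1, 0], [1, 0, 1, 0, 1, 1, 0, 1], [1, 0, 0, 0, 0, 0, 1], [1, 0, 1, 1, 1, 1, 0],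
    [1, 0, 0, 1, 0, 1, 0], [0, 1, 0, 1, 0, 1, 1, 0, 1], [0, 0, 0, 0, 1, 1, 0, 0, 1, 0], [0, 1, 1, 1, 0, 1, 0],
    [1, 1, 0, 1, 1, 0, 0], [0, 0, 1, 0, 1, 1, 1, 0, 0], [1, 1, 0, 0, 0, 0, 1, 0], [1, 0, 0, 0],
    [0, 0, 1, 1, 1, 0, 0, 1, 0], [1, 1, 0, 1, 0, 0, 0, 0, 0], [0, 1, 1, 1, 1, 0, 1, 0],
    [0, 1, 1, 0, 0, 1, 0, 1, 0], [1, 0, 1, 0], [1, 1, 0, 0, 1, 0, 1, 1], [1, 1, 0, 1], [1, 0, 0, 1, 1],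
    [1, 0, 0, 1, 1, 0, 0, 1], [0, 0, 0, 1], [1, 1, 1, 1, 0, 1], [0, 1, 0, 0, 1, 1, 1, 1], [1, 1, 1, 0, 1, 0],
    [0, 0, 0, 0, 1, 0, 1, 0], [0, 1, 1, 1, 0, 0, 0], [1, 0, 1, 1, 1, 1, 0, 0, 0], [1, 1, 1, 0, 1],
    [0, 0, 1, 0, 1, 1, 0, 0], [0, 1, 1, 1, 0, 0], [0, 0, 1, 0, 1], [0, 0, 1, 1, 0, 0, 0, 0, 0],
    [1, 1, 0, 0, 1, 1, 1, 1, 1], [0, 0, 1, 0, 1, 1], [0, 0, 0, 0, 0], [1, 1, 0, 1, 1], [0, 1, 0, 0, 0, 0, 1, 0],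
    [0, 0, 0, 0, 1, 1, 0, 0], [0, 0, 1, 0, 1, 0, 1], [0, 0, 1, 1, 1, 1, 1], [1, 0, 0, 1, 1, 0, 1, 0, 0],
    [1, 1, 0, 1, 1, 0], [0, 0, 0, 1, 1, 0, 0, 1], [0, 1], [0, 1, 1, 0, 0], [1, 0, 0, 0, 0],
    [1, 0, 0, 1, 1, 1, 1, 1], [1, 0, 1], [1, 1, 1, 1, 1, 0, 1], [0, 1, 1, 0], [0, 0, 0, 1, 0],
    [0, 0, 0, 1, 1, 0, 0, 1, 0], [0, 0, 0, 1, 1, 1, 1, 0], [0, 0, 1, 0, 0, 1, 1, 1], [0, 1, 0, 0, 0, 0],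
    [0, 0, 1], [0, 1, 1, 0, 0, 0, 0, 1, 0], [1, 0, 1, 1, 1, 0, 0, 0, 0], [1, 1, 1, 1], [1, 1, 1, 0, 0, 0],
    [1, 0, 0, 1, 1, 0, 1], [1, 1, 0, 1, 0, 1, 1, 0], [1, 0, 1, 1, 1], [1, 1, 1, 0, 0, 0, 0],
    [0, 1, 0, 0, 0, 0, 0], [1, 1, 0, 0, 1], [1, 1], [1, 0, 1, 1, 0, 1, 0], [1, 1, 0, 0, 0, 0, 0],
    [0, 0, 0, 1, 1, 1], [0, 1, 1], [1, 0, 0, 1, 1, 1, 1], [1, 0, 1, 1, 1, 0, 1], [0, 1, 0, 1, 1, 0, 1, 0],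
    [0, 0, 1, 1, 0, 0, 0, 0], [1, 1, 1, 1, 1, 0, 1, 0], [0, 1, 1, 0, 1, 1, 0, 1, 1], [0, 1, 0, 1, 1, 0],
    [0, 0, 0, 1, 0, 1, 0], [1, 1, 0, 0, 0, 1, 0], [0, 0, 1, 1, 1], [0, 1, 0, 1, 1, 0, 1, 0, 0],
    [0, 1, 1, 0, 1, 1], [0, 0, 0, 1, 0, 1, 1], [0], [0, 0, 1, 1, 0], [0, 0, 0, 0, 1], [0, 1, 0, 0, 1, 1],
    [1, 0, 0, 1, 1, 0, 0, 0, 0], [1, 0, 1, 1, 0, 0, 1, 0], [0, 0, 0, 0, 0, 1, 0], [1, 1, 1, 0, 0, 0, 0, 0],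
    [0, 0, 1, 1, 0, 1, 0, 0], [1, 1, 0, 1, 0, 1], [0, 0, 1, 1, 0, 1, 1, 0], [0, 0, 1, 0, 1, 1, 1],
    [1, 0, 0, 1, 1, 1], [1, 1, 0, 1, 1, 1, 0, 1], [1, 1, 0, 1, 1, 0, 1], [0, 0, 1, 0, 0, 0, 0], [0, 0, 1, 1],
    [0, 1, 1, 1, 1], [0, 1, 1, 1, 1, 0], [1, 0, 0, 0, 1, 1, 1], [0, 1, 0, 0], [1, 0, 0, 1, 0],
    [0, 1, 0, 0, 0, 0, 1], [1, 0, 1, 0, 0, 0, 0, 0], [0, 1, 0], [1, 1, 0, 1, 1, 1, 0, 0, 0, 0],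
    [0, 0, 1, 1, 0, 0], [0, 1, 0, 0, 0], [1, 0, 1, 0, 0, 1, 1, 1], [1, 0, 1, 1, 0, 1], [1, 0, 1, 1, 0, 0, 0, 0],
    [0, 1, 1, 0, 0, 1, 0], [0, 1, 1, 0, 0, 1], [1, 0, 1, 0, 1], [0, 1, 1, 0, 1, 1, 0], [1, 0, 0, 0, 1, 1, 0, 0],
    [0, 1, 0, 0, 1, 0, 1, 0], [0, 0, 0, 0, 1, 1, 1, 1, 0], [1, 0, 0, 0, 0, 0, 1, 0], [1, 1, 1, 0, 1, 0, 0],
    [1, 0, 0, 1, 0, 1], [0, 1, 1, 0, 1, 1, 0, 0], [1, 1, 1, 0, 1, 1, 0, 1, 1], [0, 1, 1, 1, 0, 1],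
    [1, 0, 0, 0, 1, 0], [1, 1, 0, 0, 1, 0], [1, 0, 1, 0, 1, 1], [1, 1, 1, 0, 1, 1, 0], [1, 1, 0, 0, 0, 0],
    [1, 1, 1, 1, 0, 1, 0], [0, 1, 0, 1, 1, 1], [0, 1, 0, 0, 1, 1, 0, 1], [1, 1, 1, 0, 1, 1, 0, 0],
    [0, 1, 1, 1, 0, 0, 0, 0], [0, 0, 1, 1, 0, 1], [1, 1, 0, 0, 1, 1, 0, 0, 1], [0, 1, 1, 0, 1, 0, 0],
    [0, 1, 0, 1, 1, 1, 0, 0], [1, 1, 0, 0, 1, 0, 1, 0], [0, 1, 1, 0, 1, 0], [1, 0, 0, 0, 0, 0],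
    [0, 1, 1, 1, 0, 0, 1, 0], [0, 1, 0, 1], [1, 1, 1, 1, 0], [1, 1, 1, 0, 0], [1, 1, 1, 1, 0, 1, 1, 0, 1, 1],
    [0, 1, 1, 0, 1], [0, 1, 1, 0, 0, 0, 0], [0, 1, 1, 0, 0, 0, 0, 0], [0, 1, 0, 1, 1, 0, 0],
    [1, 1, 0, 0, 1, 1, 1, 1], [1, 1, 0, 1, 0, 0, 1, 1, 1], [1, 1, 1, 0], [1, 1, 0, 1, 1, 1], [1, 1, 1],
    [1, 0, 1, 0, 1, 1, 0], [1, 1, 1, 1, 0, 0, 0], [1, 0, 0, 1], [0, 1, 0, 1, 0], [0, 1, 0, 0, 1, 0],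
    [1, 1, 0, 0, 0, 0, 1], [1, 0, 0], [1, 0, 1, 1, 1, 0, 0, 0], [0, 0, 0, 1, 0, 0, 0, 0],
    [1, 1, 1, 1, 0, 1, 0, 1], [1, 0, 1, 1, 1, 0, 0], [1, 1, 1, 0, 1, 0, 1], [1, 1, 0, 1, 0, 0], [1, 1, 0, 1, 0],
    [1, 0, 1, 1, 0], [1, 0, 1, 0, 0], [1, 1, 0, 1, 1, 0, 1, 1], [0, 1, 1, 1, 1, 0, 0, 0], [1, 0, 1, 1, 0, 0],
    [0, 1, 0, 1, 0, 1], [1, 0, 0, 0, 0, 1], [0, 0, 0, 1, 1, 0, 0], [0, 0, 1, 1, 0, 0, 1], [0, 1, 0, 1, 1, 0, 1],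
    [0, 0, 1, 0, 1, 0], [0, 0, 0, 0], [1, 0, 1, 1, 0, 1, 1], [0, 1, 0, 1, 1], [0, 1, 1, 1, 1, 1],
    [0, 0, 1, 1, 0, 1, 1, 0, 1], [1, 0, 0, 1, 0, 1, 1], [1, 0, 0, 0, 0, 1, 0], [0, 0, 1, 0],
    [0, 0, 0, 1, 1, 0, 1, 1, 0], [1, 1, 0], [0, 0, 1, 1, 1, 1, 0], [1, 1, 1, 0, 0, 1, 0],
    [1, 0, 1, 1, 0, 1, 0, 0], [0, 0, 1, 1, 0, 0, 1, 0], [1, 0, 1, 1, 0, 1, 1, 0], [1, 0, 1, 1], [0, 0],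
    [0, 0, 1, 1, 0, 1, 1], [0, 1, 1, 0, 1, 1, 0, 1], [0, 0, 0, 0, 0, 1], [1, 0, 1, 1, 0, 1, 1, 0, 1, 1],
    [1, 1, 1, 1, 1], [0, 0, 0], [1, 1, 1, 1, 1, 0], [1, 0, 0, 0, 1], [1, 0], [1, 1, 0, 0], [0, 0, 1, 1, 1, 1],
    [1, 1, 0, 0, 0], [0, 1, 1, 1], [1, 1, 0, 0, 0, 0, 0, 1], [1], [0, 1, 0, 0, 1, 1, 1],
    [0, 1, 0, 1, 1, 0, 0, 1, 0]]

/-- Words fixing the first three-set, moving the representatives to the others. -/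
def wordsB : List (List ℕ) :=
  [[], [], [2, 2], [2], [2, 3, 2, 3], [2, 3, 3, 3, 2], [2, 3, 2, 3, 2], [], [3, 2, 3, 2, 2, 3],
    [3, 2, 3, 2, 3, 2], [2, 2, 3, 2], [2, 3, 3, 2], [2, 2, 3], [2, 2, 2], [3, 3, 2, 2, 2, 3, 2, 2],
    [3, 3, 2, 2, 3, 3], [2, 3, 2, 3], [3, 2, 2, 2, 2, 2, 3], [2, 3, 3, 2], [], [3, 2, 2, 2, 3], [2, 3, 2, 2, 3],
    [3, 2, 2, 2, 3, 2], [3, 2, 3, 3, 3, 2, 3], [3, 2, 3, 3, 3, 3, 2], [3, 3, 3, 3, 3, 3, 3, 2],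
    [3, 2, 3, 3, 3, 2], [2, 3, 2, 3, 2], [2, 3, 2, 2, 3], [], [2, 3, 2, 3, 3], [3, 2, 2, 2, 3, 2],
    [3, 2, 2, 2, 2, 3], [2, 2, 3, 2, 2, 2, 2], [2, 3, 2, 3, 3], [3, 2, 2], [3], [3, 2], [2, 3, 2, 3, 2, 3, 2],
    [2], [2, 3, 2, 3, 2, 2, 3], [3], [2, 3, 3, 3], [2, 3, 2, 3, 2, 2], [3], [2, 2, 3, 2, 2], [2, 3, 3],
    [2, 3, 2, 3, 2, 3, 2, 2], [2, 2, 3, 2, 2], [2, 3, 3, 3], [3, 3, 3, 2, 2, 2, 3], [2, 3, 2, 3, 2, 3],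
    [3, 2, 2, 2, 2], [3, 2, 2, 2, 2], [3, 2, 3, 3, 3, 2], [3, 2, 2, 2, 2, 3], [2, 3], [2, 3, 2], [3, 3, 2],
    [3, 3, 3, 3, 2, 2, 2, 3], [3, 3, 2, 2, 2, 2], [2, 2], [3, 3], [3, 2, 3, 2, 3, 2, 2], [2, 3, 2, 2],
    [2, 3, 2, 2], [2, 3, 2], [3, 3, 3, 3, 2, 2, 2, 2], [2, 2, 3], [2, 2, 3], [2, 3, 2, 3], [3, 2, 2, 3, 3, 2],
    [2, 3, 2, 2, 2], [3, 2, 2, 3, 2, 3], [2, 2], [2, 3, 2, 2, 3], [3, 2, 2, 2, 3, 2], [2, 2, 3, 2, 3, 2, 2],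
    [2, 3], [3, 2], [2, 3], [3, 3], [2, 3, 3], [3, 2], [3, 2, 3, 3, 2], [3, 2, 2, 3, 2], [3, 2, 2, 3],
    [3, 2, 3, 2, 3, 3], [3, 3, 2, 2, 2, 2, 3], [3, 3, 2, 2, 2, 3, 2], [3, 2, 3, 2, 3], [3, 2, 3, 3, 2],
    [2, 3, 2, 2, 3, 3], [3, 2, 3, 2, 3, 3], [3, 2, 2, 2, 3, 3], [3, 3, 3, 3, 2], [3, 3, 3, 2, 3], [2, 2, 2],
    [2, 3, 3, 2], [3, 2, 2, 2, 3], [2, 3, 2, 2, 2, 3], [3, 2, 2, 3, 2], [3, 2, 2, 3, 2], [3, 2, 2, 3, 2],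
    [3, 2, 2, 2, 3, 3], [3, 2, 2, 2], [2, 3, 2, 3, 3, 3, 2], [2, 2, 3, 2, 3, 2], [2], [3], [3, 3, 3, 3, 2],
    [3, 2, 2, 2, 3], [2, 3, 2, 2, 2, 2], [2, 3, 3, 3, 2, 2, 2, 3], [3, 2, 3, 3], [2, 3, 2, 2, 2, 2],
    [3, 2, 3, 3, 3], [2, 3, 2], [2, 3, 2, 2, 2, 3], [3, 2, 2, 3, 2, 2], [3, 2, 3, 2], [3, 2, 3], [3, 3, 3, 2],
    [3, 3, 2, 2, 3, 3, 2], [2, 3, 3, 2, 2, 2, 3], [2, 2, 2, 2, 2], [3, 3, 3], [3, 2, 3, 2, 2], [2, 2, 2, 2, 2, 3],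
    [2, 2, 2, 2, 2, 3], [2, 2, 2, 3, 3], [3, 3, 2, 3], [3, 3, 3, 2], [3, 3, 3, 2], [3, 3, 3, 3],
    [3, 3, 3, 2, 2, 2], [3, 2, 2, 3, 3], [3, 2, 2, 2, 3, 2, 2], [3, 3, 3, 2, 2, 2], [3, 3, 3],
    [2, 3, 3, 3, 3, 3, 2], [2, 2, 3, 3, 2, 3], [3, 2, 2], [3, 3, 3, 2, 2, 2, 2], [3, 2, 2], [3, 2, 3, 2, 2],
    [3, 2, 2], [2, 3, 2, 3, 3, 2], [3, 2, 2, 3, 2, 3, 2, 2], [3, 3, 2], [3, 2, 3], [2, 2], [3, 3, 3], [2, 3, 2],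
    [3, 3, 2], [3, 2, 3], [3, 2, 3, 2], [3, 2, 2, 3], [2, 3, 3, 3, 3, 3, 3, 2], [2, 2, 2, 2, 2], [3, 2, 3, 2, 3],
    [3, 2, 3, 2], [3, 2, 2, 3, 3], [3, 2, 2, 3], [3, 2, 3, 3], [2, 2, 3, 3, 2], [2, 2, 2, 3], [2, 2, 2, 3, 2],
    [3, 3, 2, 2, 2, 3], [2, 2, 2, 2], [3, 2, 3, 2, 2, 2, 3], [2, 3, 3, 3, 2], [2, 2, 2, 2, 3, 3], [2, 3, 3, 2, 3],
    [2, 3, 3, 3, 2], [2, 2, 2, 3], [2, 2, 3, 2], [3, 3, 2, 2, 3], [2, 2, 2, 3], [2, 2, 3, 2], [2, 3, 3, 3, 2, 3],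
    [3, 3, 3, 3, 3, 3, 2], [2, 3, 3, 3, 3, 2], [2, 2, 2, 2], [2, 3, 2, 3, 2], [2, 2, 3, 2], [2, 2, 3, 3, 2],
    [2, 2, 3, 2, 3], [2, 3, 2, 2, 2, 2, 2, 3], [2], [2, 3, 3, 3, 3], [2, 2, 3, 2, 3], [2, 2, 3, 3, 2],
    [3, 3, 2, 2, 2], [2, 2, 2, 3, 2, 2], [2, 2, 3, 3], [2, 2, 2, 3, 2, 2], [3, 3], [2, 2, 3, 3], [3, 3, 2, 2, 2],
    [3, 2], [2, 3, 2, 2, 2, 2, 3], [3, 3, 3, 3, 2, 3], [3, 3, 3, 3, 3, 2], [3, 3, 2, 2, 2, 3, 3], [3, 2, 3, 3, 2],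
    [3, 3, 2, 3, 2], [3, 3, 3, 2, 3, 2], [3, 2, 2, 2], [3, 3, 3, 3, 3, 2], [2, 3, 3, 2, 2, 3], [2, 2, 2, 2, 3],
    [2, 2, 2, 3, 2], [2, 2, 2, 2, 3], [2, 2, 2, 2, 3, 3], [2, 2, 2, 3, 3], [2, 3, 3, 2, 3, 2], [2, 2, 2, 3, 2],
    [2, 2, 2, 3, 2, 3], [3, 2, 3, 2]]

end CfsgLib.M12Graph
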