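import Cfsg.Agent.M12Graph.Kills
import Cfsg.Agent.SmallDegreeGraph.Tools
import Mathlib.GroupTheory.Transfer

/-!
# No simple group of order 15840 with a self-centralising Sylow 11-subgroup and full automiser
-/

set_option autoImplicit false
set_option linter.style.haveILetI false
set_option linter.unusedSectionVars false
set_option maxHeartbeats 800000

namespace CfsgLib.M12Graph

open Subgroup MulAction CfsgLib.FixedPoints

instance fact_five : Fact (Nat.Prime 5) := ⟨Nat.prime_five⟩

variable {G : Type*} [Group G] [Finite G]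

/-- The normalizer of a subgroup of prime order is transitive on the Sylow subgroups it fixes. -/
theorem card_fixed_mul {q : ℕ} [Fact q.Prime] (P : Sylow 11 G) {u : G} (hu : orderOf u = q)
    (huN : u ∈ normalizer ((P : Subgroup G) : Set G))
    (hsq : ¬ q ^ 2 ∣ Nat.card (normalizer ((P : Subgroup G) : Set G))) :
    Nat.card {Q : Sylow 11 G // u • Q = Q} *
      Nat.card (normalizer ((zpowers u : Subgroup G) : Set G) ⊓ normalizer ((P : Subgroup G) : Set G) : Subgroup G) =
      Nat.card (normalizer ((zpowers u : Subgroup G) : Set G)) := by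
  classical
  set M := normalizer ((zpowers u : Subgroup G) : Set G) with hM
  have hfix : ∀ Q : Sylow 11 G, u • Q = Q ↔ Q ∈ MulAction.orbit M P := by
    intro Q
    constructor
    · intro hQ
      obtain ⟨a, rfl⟩ := MulAction.exists_smul_eq G P Q
      have hmem : a⁻¹ * u * a ∈ normalizer ((P : Subgroup G) : Set G) := by
        refine Sylow.smul_eq_iff_mem_normalizer.1 ?_
        rw [mul_smul, mul_smul, hQ, inv_smul_smul]
      have ho : orderOf (a⁻¹ * u * a) = q := by
        rw [show a⁻¹ * u * a = MulAut.conj a⁻¹ u by simp, MulEquiv.orderOf_eq, hu]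
      obtain ⟨m, hm⟩ := sylow_conj (p := q) hsq (g := (⟨u, huN⟩ : normalizer ((P : Subgroup G) : Set G)))
        (g' := ⟨_, hmem⟩) (by rw [orderOf_mk, hu]) (by rw [orderOf_mk, ho])
      obtain ⟨i, hi⟩ := hm
      have hi' : u ^ i = (m : G) * (a⁻¹ * u * a) * (m : G)⁻¹ := congrArg Subtype.val hi
      have hmem2 : (m : G) * a⁻¹ ∈ M := by
        have hconj : (m : G) * a⁻¹ * u * ((m : G) * a⁻¹)⁻¹ = u ^ i := by rw [hi']; group
        have hz : zpowers ((m : G) * a⁻¹ * u * ((m : G) * a⁻¹)⁻¹) = zpowers u :=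
          zpowers_eq_of_mem hu (((MulAut.conj ((m : G) * a⁻¹)).orderOf_eq u).trans hu) (hconj ▸ ⟨i, rfl⟩)
        refine mem_normalizer_iff.2 fun b => ⟨fun hb => ?_, fun hb => ?_⟩
        · obtain ⟨j, rfl⟩ := hb
          exact hz ▸ ⟨j, conj_zpow⟩
        · rw [← hz] at hb
          obtain ⟨j, hj⟩ := hb
          exact ⟨j, (MulAut.conj ((m : G) * a⁻¹)).injective ((map_zpow _ u j).trans hj)⟩
      refine ⟨⟨_, inv_mem hmem2⟩, ?_⟩
      show ((m : G) * a⁻¹)⁻¹ • P = a • P
      rw [mul_inv_rev, inv_inv, mul_smul, Sylow.smul_eq_iff_mem_normalizer.2 (inv_mem m.2)]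
    · rintro ⟨⟨d, hd⟩, rfl⟩
      show u • d • P = d • P
      have h1 : d⁻¹ * u * d ∈ normalizer ((P : Subgroup G) : Set G) := by
        have : d⁻¹ * u * d ∈ zpowers u := by
          simpa using (mem_normalizer_iff.1 (inv_mem hd) u).1 (mem_zpowers u)
        exact (zpowers_le.2 huN) this
      have h2 := congrArg (d • ·) (Sylow.smul_eq_iff_mem_normalizer.2 h1)
      simp only [mul_smul, smul_inv_smul] at h2
      exact h2
  haveI := Fintype.ofFinite (MulAction.orbit M P)
  haveI := Fintype.ofFinite (MulAction.stabilizer M P)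
  haveI := Fintype.ofFinite M
  have hmul := MulAction.card_orbit_mul_card_stabilizer_eq_card_group M P
  simp only [← Nat.card_eq_fintype_card] at hmul
  rw [← hmul, Nat.card_congr (Equiv.subtypeEquivRight hfix)]
  congr 1
  exact Nat.card_congr
    ⟨fun d => ⟨⟨d.1, d.2.1⟩, Sylow.smul_eq_iff_mem_normalizer.2 d.2.2⟩,
      fun d => ⟨d.1.1, d.1.2, Sylow.smul_eq_iff_mem_normalizer.1 d.2⟩, fun d => rfl, fun d => rfl⟩

/-- A power of an element of order ten squaring to one. -/
theorem involution_of_cyclic {g z : G} (hg : g ^ 5 = z) (hz : z * z = 1) {v : G} (hv : v ∈ zpowers g)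
    (h2 : v * v = 1) : v = 1 ∨ v = z := by
  obtain ⟨i, rfl⟩ := mem_zpowers_iff.1 hv
  have h5 : g ^ i = z ^ i := by
    rw [← hg, ← zpow_natCast g 5, ← zpow_mul, mul_comm, zpow_mul, zpow_natCast]
    calc g ^ i = g ^ i * ((g ^ i * g ^ i) * (g ^ i * g ^ i)) := by rw [h2, mul_one, mul_one]
      _ = (g ^ i) ^ 5 := by simp only [pow_succ, pow_zero, one_mul, mul_assoc]
  have hz2 : z ^ (2 : ℤ) = 1 := by rw [show (2 : ℤ) = ((2 : ℕ) : ℤ) from rfl, zpow_natCast, sq, hz]
  rcases Int.even_or_odd i with ⟨j, rfl⟩ | ⟨j, rfl⟩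
  · left
    rw [h5, ← two_mul, zpow_mul, hz2, one_zpow]
  · right
    rw [h5, zpow_add, zpow_mul, hz2, one_zpow, one_mul, zpow_one]

/-- An involution normalising but not centralising a subgroup of order five inverts it. -/
theorem inverts_five {y v : G} (hy : orderOf y = 5) (hv : v ∈ normalizer ((zpowers y : Subgroup G) : Set G))
    (h2 : v * v = 1) (hvy : v * y ≠ y * v) : v * y * v⁻¹ = y⁻¹ := by
  classical
  obtain ⟨i, hi, hi'⟩ := Finset.mem_image.1
    ((mem_zpowers_iff_mem_range_orderOf (x := y)).1 ((mem_normalizer_iff.1 hv y).1 (mem_zpowers y)))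
  rw [hy, Finset.mem_range] at hi
  have hii : y ^ (i * i) = y ^ 1 := by
    have : v * (v * y * v⁻¹) * v⁻¹ = y := by
      calc v * (v * y * v⁻¹) * v⁻¹ = v * v * y * (v * v)⁻¹ := by group
        _ = y := by rw [h2, inv_one, one_mul, mul_one]
    rw [← hi', ← conj_pow, ← hi', ← pow_mul] at this
    rw [this, pow_one]
  have hmod := pow_eq_pow_iff_modEq.1 hii
  rw [hy] at hmod
  unfold Nat.ModEq at hmod
  interval_cases i
  · norm_num at hmod
  · exact absurd (mul_inv_eq_iff_eq_mul.1 (hi'.symm.trans (pow_one y))) hvy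
  · norm_num at hmod
  · norm_num at hmod
  · rw [← hi', eq_inv_iff_mul_eq_one, ← pow_succ, show (4 + 1 : ℕ) = orderOf y from hy.symm, pow_orderOf_eq_one]

/-- An element of order five and a commuting involution in the normalizer of the Sylow 11-subgroup. -/
structure Five (P : Sylow 11 G) (y z : G) : Prop where
  order : Nat.card G = 15840
  ordy : orderOf y = 5
  ordz : orderOf z = 2
  memz : z ∈ normalizer ((P : Subgroup G) : Set G)
  notz : z ∉ centralizer ((P : Subgroup G) : Set G)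
  comm : z * y = y * z
  notC : ¬ normalizer ((zpowers y : Subgroup G) : Set G) ≤ centralizer ({y} : Set G)
  card : Nat.card (normalizer ((zpowers y : Subgroup G) : Set G)) = 40

variable [IsSimpleGroup G] (hP11 : ∀ R : Sylow 11 G, Nat.card (R : Subgroup G) = 11)
  (h144 : Nat.card (Sylow 11 G) = 144) (P : Sylow 11 G)
include hP11 h144

theorem exists_five
    (hC : Nat.card (centralizer ((P : Subgroup G) : Set G)) = 11)
    (hN : Nat.card (normalizer ((P : Subgroup G) : Set G)) = 110) :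
    ∃ y z : G, Five P y z ∧ y ∈ normalizer ((P : Subgroup G) : Set G) := by
  classical
  haveI : Fact (Nat.Prime 2) := ⟨Nat.prime_two⟩
  haveI : Fact (Nat.Prime 3) := ⟨Nat.prime_three⟩
  have hG := not_comm_of_sylows P (by rw [h144]; norm_num)
  set C := centralizer ((P : Subgroup G) : Set G) with hCdef
  set N := normalizer ((P : Subgroup G) : Set G) with hNdef
  have hn : Nat.card G = 15840 := by rw [← CfsgLib.SmallSimple.card_sylow_mul P, h144, hN]
  obtain ⟨x, hxP, hx, hxz⟩ := exists_sylow_gen P (hP11 P)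
  have hCP : C = (P : Subgroup G) :=
    (eq_of_le_of_card_ge (comm_of_card_prime (hP11 P)) (by rw [hC, hP11 P])).symm
  have hconj : ∀ a ∈ N, ∀ b ∈ N, a * b * a⁻¹ * b⁻¹ ∈ (P : Subgroup G) := by
    intro a ha b hb
    rw [← hCP, hCdef, ← hxz, zpowers_eq_closure, centralizer_closure, mem_centralizer_singleton_iff]
    have hpow : ∀ c ∈ N, ∃ i : ℤ, c * x * c⁻¹ = x ^ i := fun c hc => by
      have := (mem_normalizer_iff.1 hc x).1 hxP
      rw [← hxz] at this
      exact (mem_zpowers_iff.1 this).imp fun i hi => hi.symm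
    obtain ⟨i, hi⟩ := hpow a ha
    obtain ⟨j, hj⟩ := hpow b hb
    have key : a * b * x * (a * b)⁻¹ = b * a * x * (b * a)⁻¹ := by
      calc a * b * x * (a * b)⁻¹ = a * (b * x * b⁻¹) * a⁻¹ := by group
        _ = x ^ (i * j) := by rw [hj, ← conj_zpow, hi, ← zpow_mul]
        _ = b * (a * x * a⁻¹) * b⁻¹ := by rw [hi, ← conj_zpow, hj, ← zpow_mul, mul_comm]
        _ = b * a * x * (b * a)⁻¹ := by group
    refine mul_inv_eq_iff_eq_mul.1 ?_
    calc a * b * a⁻¹ * b⁻¹ * x * (a * b * a⁻¹ * b⁻¹)⁻¹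
        = a * b * (a⁻¹ * b⁻¹ * x * (a⁻¹ * b⁻¹)⁻¹) * (a * b)⁻¹ := by group
      _ = x := by
        have h1 : a⁻¹ * b⁻¹ * x * (a⁻¹ * b⁻¹)⁻¹ = (a * b)⁻¹ * x * (a * b) := by
          have h2 := congrArg (fun t => (a * b)⁻¹ * ((b * a)⁻¹ * t * (b * a)) * (a * b)) key
          calc a⁻¹ * b⁻¹ * x * (a⁻¹ * b⁻¹)⁻¹
              = (b * a)⁻¹ * (a * b * ((a * b)⁻¹ * x * (a * b)) * (a * b)⁻¹) * (b * a) := by group
            _ = (a * b)⁻¹ * x * (a * b) := by
              have h3 : ∀ t : G, (b * a)⁻¹ * (a * b * t * (a * b)⁻¹) * (b * a) = t ↔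
                  a * b * t * (a * b)⁻¹ = b * a * t * (b * a)⁻¹ := fun t => by
                constructor
                · intro h; conv_rhs => rw [← h]
                  group
                · intro h; rw [h]; group
              refine (h3 _).2 ?_
              obtain ⟨k, hk⟩ := hpow (a * b)⁻¹ (inv_mem (mul_mem ha hb))
              rw [inv_inv] at hk
              rw [hk, ← conj_zpow, key, conj_zpow]
        rw [h1]; group
  -- commuting elements of orders five and two in the normalizer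
  obtain ⟨⟨y, hyN⟩, hy⟩ := exists_prime_orderOf_dvd_card' (G := N) 5 (by rw [hN]; norm_num)
  rw [orderOf_mk] at hy
  have hy1 : y ≠ 1 := fun h => by rw [h, orderOf_one] at hy; omega
  have hyC : y ∉ C := fun h => by
    have := orderOf_dvd_natCard _ h
    rw [hy, hC] at this
    norm_num at this
  set Q := zpowers y with hQ
  have hQc : Nat.card Q = 5 := by rw [hQ, Nat.card_zpowers, hy]
  set NQ := normalizer ((Q : Subgroup G) : Set G) with hNQ
  have hyNQ : y ∈ NQ := le_normalizer (mem_zpowers y)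
  have hx11 : ¬ 11 ∣ Nat.card (NQ ⊓ N : Subgroup G) := fun h => by
    obtain ⟨a, ha⟩ := exists_prime_orderOf_dvd_card' (G := (NQ ⊓ N : Subgroup G)) 11 h
    rw [← Subgroup.orderOf_coe] at ha
    have ha1 : (a : G) ≠ 1 := fun h => by rw [h, orderOf_one] at ha; omega
    have haP : (a : G) ∈ (P : Subgroup G) := CfsgLib.SmallSimple.mem_sylow_of_smul_eq (n := 1)
      (by rw [pow_one, ← ha, pow_orderOf_eq_one]) P (Sylow.smul_eq_iff_mem_normalizer.2 a.2.2)
    have hle : Q ≤ centralizer ((zpowers (a : G) : Subgroup G) : Set G) :=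
      SmallDegreeGraph.le_centralizer_of_free (p := 11)
        (IsPGroup.of_card (n := 1) (by rw [Nat.card_zpowers, ha, pow_one])) (zpowers_le.2 a.2.1)
        (by rw [hQc]; norm_num) (SmallDegreeGraph.free_of_freeB Nat.card_pos.ne' (by first | (rw [hQc]; decide +kernel) | (rw [hM24']; decide +kernel)))
    refine hyC ?_
    rw [hCdef, ← (zpowers_eq_of_mem_sylow (hP11 P) haP ha1).1]
    exact hle (mem_zpowers y)
  have hsq5 : ¬ 5 ^ 2 ∣ Nat.card G := by rw [hn]; norm_num
  have hsq5N : ¬ 5 ^ 2 ∣ Nat.card N := by rw [hN]; norm_num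
  -- the normaliser of the five-subgroup in the normalizer has order ten
  obtain ⟨k0, hk0, hk0N⟩ := exists_count hsq5 hy hyN
  have hd110 : Nat.card (NQ ⊓ N : Subgroup G) ∣ 110 := hN ▸ card_dvd_of_le inf_le_right
  have hd5 : 5 ∣ Nat.card (NQ ⊓ N : Subgroup G) := hQc ▸ card_dvd_of_le (le_inf le_normalizer (zpowers_le.2 hyN))
  have hd10 : Nat.card (NQ ⊓ N : Subgroup G) = 10 := by
    have hcases : ∀ d : Fin 111, d.1 ∣ 110 → 5 ∣ d.1 → ¬ 11 ∣ d.1 → (110 / d.1) % 5 = 1 → d.1 = 10 := by
      decide +kernel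
    refine hcases ⟨_, Nat.lt_succ_of_le (Nat.le_of_dvd (by norm_num) hd110)⟩ hd110 hd5 hx11 ?_
    have h : 110 / Nat.card (NQ ⊓ N : Subgroup G) = k0 := by
      conv_lhs => arg 1; rw [← hN, hk0N]
      exact Nat.mul_div_cancel _ Nat.card_pos
    show 110 / Nat.card (NQ ⊓ N : Subgroup G) % 5 = 1
    rw [h, hk0]
  obtain ⟨⟨z, hzNQ, hzN⟩, hz⟩ := exists_prime_orderOf_dvd_card' (G := (NQ ⊓ N : Subgroup G)) 2 (by rw [hd10]; norm_num)
  replace hz : orderOf z = 2 := (Subgroup.orderOf_coe _).trans hz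
  have hz2 : z * z = 1 := by rw [← sq, ← hz, pow_orderOf_eq_one]
  have hz1 : z ≠ 1 := fun h => by rw [h, orderOf_one] at hz; omega
  have hzy : z * y = y * z := by
    have h1 : z * y * z⁻¹ * y⁻¹ ∈ Q := mul_mem ((mem_normalizer_iff.1 hzNQ y).1 (mem_zpowers y)) (inv_mem (mem_zpowers y))
    have h2 := hconj z hzN y hyN
    have h3 : orderOf (z * y * z⁻¹ * y⁻¹) ∣ 1 := by
      have := Nat.dvd_gcd (orderOf_dvd_natCard _ h1) (orderOf_dvd_natCard _ h2)
      rwa [hQc, hP11 P, show Nat.gcd 5 11 = 1 from rfl] at this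
    have h4 := orderOf_eq_one_iff.1 (Nat.dvd_one.1 h3)
    exact mul_inv_eq_iff_eq_mul.1 (mul_inv_eq_one.1 h4)
  obtain ⟨g, hg⟩ : ∃ g, g = z * y := ⟨_, rfl⟩
  have hg5 : g ^ 5 = z := by
    rw [hg, (show Commute z y from hzy).mul_pow, ← hy, pow_orderOf_eq_one, mul_one, hy]
    simp only [pow_succ, pow_zero, one_mul, hz2]
  have hgo : orderOf g = 10 := by
    rw [hg, (show Commute z y from hzy).orderOf_mul_eq_mul_orderOf_of_coprime (by rw [hz, hy]; norm_num), hz, hy]
  have hzC : z ∉ C := fun h => by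
    have := orderOf_dvd_natCard _ h
    rw [hz, hC] at this
    norm_num at this
  -- the normalizer of the five-subgroup has order forty
  have hfy := card_fixed_mul P hy hyN hsq5N
  rw [hd10, ← hNQ] at hfy
  have hFy := card_fixed_modEq (q := 5) (v := y) (by rw [← hy, pow_orderOf_eq_one]) (Sylow 11 G)
  rw [h144] at hFy
  have hby := fixed_bound hP11 P hyN hyC
  rw [h144] at hby
  have hFd : Nat.card {R : Sylow 11 G // y • R = R} ∣ 1584 := by
    have h : Nat.card {R : Sylow 11 G // y • R = R} * 10 ∣ 1584 * 10 := by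
      rw [hfy, show 1584 * 10 = Nat.card G from hn.symm]
      exact card_subgroup_dvd_card NQ
    exact Nat.dvd_of_mul_dvd_mul_right (by norm_num) h
  set Cy := centralizer ({y} : Set G) with hCy
  have hCyNQ : Cy ≤ NQ := by
    rw [hCy, hNQ, hQ, ← centralizer_closure, ← zpowers_eq_closure]
    exact centralizer_le_normalizer _
  have hgCy : zpowers g ≤ Cy := zpowers_le.2 (mem_centralizer_singleton_iff.2 (by
    rw [hg]
    calc z * y * y = y * z * y := by rw [hzy]
      _ = y * (z * y) := mul_assoc _ _ _))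
  have h10Cy : 10 ∣ Nat.card Cy := by
    rw [← hgo, ← Nat.card_zpowers]
    exact card_dvd_of_le hgCy
  have hnotC : ¬ NQ ≤ Cy := fun hle => by
    let Q5 : Sylow 5 G := Sylow.ofCard Q (by
      rw [hQc, factorization_eq_one Nat.prime_five Nat.card_pos.ne' (by rw [hn]; norm_num) hsq5, pow_one])
    refine CfsgLib.SmallSimple.not_le_centralizer Q5 (by show 1 < Nat.card Q; rw [hQc]; norm_num)
      (by show Nat.card Q < _; rw [hQc, hn]; norm_num) ?_
    show NQ ≤ centralizer ((zpowers y : Subgroup G) : Set G)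
    rw [zpowers_eq_closure, centralizer_closure]
    exact hle
  have hNQ40 : Nat.card NQ = 40 := by
    have hcases : ∀ F : Fin 15, F.1 ∣ 1584 → F.1 % 5 = 4 → F.1 = 4 ∨ F.1 = 9 := by decide +kernel
    rcases hcases ⟨Nat.card {R : Sylow 11 G // y • R = R}, by omega⟩ hFd
      (show Nat.card {R : Sylow 11 G // y • R = R} % 5 = 4 by omega) with h | h <;> simp only at h <;>
      rw [h] at hfy
    · omega
    · exfalso
      refine hnotC ?_
      obtain ⟨T, hT⟩ := Sylow.exists_subgroup_card_pow_prime 3 (G := NQ) (n := 2) (by rw [← hfy]; norm_num)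
      have hTc : Nat.card (T.map NQ.subtype) = 3 ^ 2 := by rw [card_map_of_injective NQ.subtype_injective, hT]
      have hle : Q ≤ centralizer ((T.map NQ.subtype : Subgroup G) : Set G) :=
        SmallDegreeGraph.le_centralizer_of_free (p := 3) (IsPGroup.of_card hTc) (map_subtype_le _)
          (by rw [hQc]; norm_num) (SmallDegreeGraph.free_of_freeB Nat.card_pos.ne' (by first | (rw [hQc]; decide +kernel) | (rw [hM24']; decide +kernel)))
      have h9 : 9 ∣ Nat.card Cy := by
        rw [show 9 = Nat.card (T.map NQ.subtype) by rw [hTc]; norm_num]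
        refine card_dvd_of_le fun a ha => mem_centralizer_singleton_iff.2 ?_
        exact mem_centralizer_iff.1 (hle (mem_zpowers y)) a ha
      refine (eq_of_le_of_card_ge hCyNQ (Nat.le_of_dvd Nat.card_pos ?_)).ge
      rw [← hfy]
      exact Nat.Coprime.mul_dvd_of_dvd_of_dvd (by norm_num) h9 h10Cy
  exact ⟨y, z,
    { order := hn, ordy := hy, ordz := hz, memz := hzN, notz := hzC, comm := hzy, notC := hnotC, card := hNQ40 }, hyN⟩

/-- The centralizer of the involution is the normalizer of the five-subgroup. -/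
theorem centralizer_eq_normalizer {y z : G} (hF : Five P y z) (hyN : y ∈ normalizer ((P : Subgroup G) : Set G))
    (hN : Nat.card (normalizer ((P : Subgroup G) : Set G)) = 110) :
    centralizer ({z} : Set G) = normalizer ((zpowers y : Subgroup G) : Set G) := by
  classical
  haveI : Fact (Nat.Prime 2) := ⟨Nat.prime_two⟩
  have hG := not_comm_of_sylows P (by rw [h144]; norm_num)
  obtain ⟨hn, hy, hz, hzN, hzC, hzy, hnotC, hNQ40⟩ := hF
  set Q := zpowers y with hQ
  set NQ := normalizer ((Q : Subgroup G) : Set G) with hNQ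
  set Cy := centralizer ({y} : Set G) with hCy
  set N := normalizer ((P : Subgroup G) : Set G) with hNdef
  have hz2 : z * z = 1 := by rw [← sq, ← hz, pow_orderOf_eq_one]
  have hz1 : z ≠ 1 := fun h => by rw [h, orderOf_one] at hz; omega
  have hy1 : y ≠ 1 := fun h => by rw [h, orderOf_one] at hy; omega
  have hQc : Nat.card Q = 5 := by rw [hQ, Nat.card_zpowers, hy]
  have hsq5 : ¬ 5 ^ 2 ∣ Nat.card G := by rw [hn]; norm_num
  have hyNQ : y ∈ NQ := le_normalizer (mem_zpowers y)
  have hCyNQ : Cy ≤ NQ := by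
    rw [hCy, hNQ, hQ, ← centralizer_closure, ← zpowers_eq_closure]
    exact centralizer_le_normalizer _
  obtain ⟨g, hg⟩ : ∃ g, g = z * y := ⟨_, rfl⟩
  have hg5 : g ^ 5 = z := by
    rw [hg, (show Commute z y from hzy).mul_pow, show y ^ 5 = 1 by rw [← hy, pow_orderOf_eq_one], mul_one]
    simp only [pow_succ, pow_zero, one_mul, hz2]
  have hgo : orderOf g = 10 := by
    rw [hg, (show Commute z y from hzy).orderOf_mul_eq_mul_orderOf_of_coprime (by rw [hz, hy]; norm_num), hz, hy]
  have hgCy : zpowers g ≤ Cy := zpowers_le.2 (mem_centralizer_singleton_iff.2 (by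
    rw [hg]
    calc z * y * y = y * z * y := by rw [hzy]
      _ = y * (z * y) := mul_assoc _ _ _))
  have h10Cy : 10 ∣ Nat.card Cy := by
    rw [← hgo, ← Nat.card_zpowers]
    exact card_dvd_of_le hgCy
  set C := centralizer ((P : Subgroup G) : Set G) with hCdef
  -- the centralizer of the involution
  have hzg : z ∈ zpowers g := hg5 ▸ pow_mem (mem_zpowers g) 5
  have hcentral : ∀ w : G, (∀ a ∈ zpowers g, w * a * w⁻¹ ∈ zpowers g) → w * z = z * w := fun w hw => by
    rcases involution_of_cyclic hg5 hz2 (hw z hzg) (by rw [← sq, conj_pow, sq, hz2]; group) with h | h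
    · exact absurd (conj_eq_one_iff.1 h) hz1
    · exact mul_inv_eq_iff_eq_mul.1 h
  set Z := centralizer ({z} : Set G) with hZ
  have hZN : Z = normalizer ((zpowers z : Subgroup G) : Set G) := by
    refine le_antisymm ?_ fun a ha => ?_
    · rw [hZ, ← centralizer_closure, ← zpowers_eq_closure]
      exact centralizer_le_normalizer _
    · have h := (mem_normalizer_iff.1 ha z).1 (mem_zpowers z)
      obtain ⟨i, hi, hi'⟩ := Finset.mem_image.1 ((mem_zpowers_iff_mem_range_orderOf (x := z)).1 h)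
      rw [hz, Finset.mem_range] at hi
      rw [hZ, mem_centralizer_singleton_iff]
      interval_cases i
      · rw [pow_zero] at hi'
        exact absurd (conj_eq_one_iff.1 hi'.symm) hz1
      · rw [pow_one] at hi'
        exact mul_inv_eq_iff_eq_mul.1 hi'.symm
  have hyZ : y ∈ Z := mem_centralizer_singleton_iff.2 hzy.symm
  have hzN' : Nat.card (normalizer ((zpowers z : Subgroup G) : Set G) ⊓ N : Subgroup G) = 10 := by
    rw [← hZN]
    have h1 : Nat.card (Z ⊓ N : Subgroup G) ∣ 110 := hN ▸ card_dvd_of_le inf_le_right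
    have h2 : 10 ∣ Nat.card (Z ⊓ N : Subgroup G) := by
      rw [← hgo, ← Nat.card_zpowers]
      refine card_dvd_of_le (zpowers_le.2 ?_)
      rw [hg]
      refine ⟨?_, mul_mem hzN hyN⟩
      show z * y ∈ Z
      rw [hZ, mem_centralizer_singleton_iff, mul_assoc, ← hzy]
    have h3 : ¬ 11 ∣ Nat.card (Z ⊓ N : Subgroup G) := fun h => by
      obtain ⟨a, ha⟩ := exists_prime_orderOf_dvd_card' (G := (Z ⊓ N : Subgroup G)) 11 h
      rw [← Subgroup.orderOf_coe] at ha
      have ha1 : (a : G) ≠ 1 := fun h => by rw [h, orderOf_one] at ha; omega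
      have haP : (a : G) ∈ (P : Subgroup G) := CfsgLib.SmallSimple.mem_sylow_of_smul_eq (n := 1)
        (by rw [pow_one, ← ha, pow_orderOf_eq_one]) P (Sylow.smul_eq_iff_mem_normalizer.2 a.2.2)
      refine hzC ?_
      rw [hCdef, ← (zpowers_eq_of_mem_sylow (hP11 P) haP ha1).1, zpowers_eq_closure, centralizer_closure,
        mem_centralizer_singleton_iff]
      exact (mem_centralizer_singleton_iff.1 a.2.1).symm
    have hcases : ∀ d : Fin 111, d.1 ∣ 110 → 10 ∣ d.1 → ¬ 11 ∣ d.1 → d.1 = 10 := by decide +kernel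
    exact hcases ⟨_, Nat.lt_succ_of_le (Nat.le_of_dvd (by norm_num) h1)⟩ h1 h2 h3
  have hfz := card_fixed_mul (q := 2) P hz hzN (by rw [hN]; norm_num)
  rw [hzN', ← hZN] at hfz
  obtain ⟨kz, hkz⟩ := involution_parity hG (v := z) (by rw [sq, hz2]) (Sylow 11 G)
  rw [h144] at hkz
  have hbz := fixed_bound hP11 P hzN hzC
  rw [h144] at hbz
  obtain ⟨k5, hk5, hk5Z⟩ := exists_count hsq5 hy hyZ
  rw [← hQ, ← hNQ] at hk5Z
  have hdZ : Nat.card (NQ ⊓ Z : Subgroup G) ∣ 40 := hNQ40 ▸ card_dvd_of_le inf_le_left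
  have hgZ : zpowers g ≤ NQ ⊓ Z := by
    refine le_inf (hgCy.trans hCyNQ) (zpowers_le.2 ?_)
    rw [hg, hZ, mem_centralizer_singleton_iff, mul_assoc, ← hzy]
  have h10Z : 10 ∣ Nat.card (NQ ⊓ Z : Subgroup G) := by
    rw [← hgo, ← Nat.card_zpowers]
    exact card_dvd_of_le hgZ
  have hZeq : Z = NQ := by
    have hcases : ∀ F : Fin 15, ∀ d : Fin 41, ∀ k : Fin 141, d.1 ∣ 40 → 10 ∣ d.1 → k.1 % 5 = 1 → F.1 % 4 = 0 →
        F.1 * 10 = k.1 * d.1 → (F.1 = 4 ∧ d.1 = 40) ∨ (F.1 = 12 ∧ d.1 = 20 ∧ k.1 = 6) ∨ F.1 = 0 := by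
      decide +kernel
    have hkle : k5 < 141 := by
      have : k5 * 10 ≤ k5 * Nat.card (NQ ⊓ Z : Subgroup G) := Nat.mul_le_mul le_rfl (Nat.le_of_dvd Nat.card_pos h10Z)
      omega
    rcases hcases ⟨Nat.card {R : Sylow 11 G // z • R = R}, by omega⟩
      ⟨_, Nat.lt_succ_of_le (Nat.le_of_dvd (by norm_num) hdZ)⟩ ⟨k5, hkle⟩ hdZ h10Z hk5
      (show Nat.card {R : Sylow 11 G // z • R = R} % 4 = 0 by omega) (hfz.trans hk5Z)
      with ⟨hF, hd⟩ | ⟨hF, hd, hk6⟩ | hF <;> simp only at *
    · have hcZ : Nat.card Z = 40 := by omega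
      refine eq_of_le_of_card_ge ?_ (by rw [hcZ, hNQ40])
      have := eq_of_le_of_card_ge (inf_le_right : NQ ⊓ Z ≤ Z) (by rw [hcZ, hd])
      rw [← this]
      exact inf_le_left
    · exfalso
      have hcZ : Nat.card Z = 120 := by omega
      have hCy10 : Nat.card Cy = 10 ∨ Nat.card Cy = 20 := by
        have h1 : Nat.card Cy ∣ 40 := hNQ40 ▸ card_dvd_of_le hCyNQ
        have h2 : Nat.card Cy ≠ 40 := fun h => hnotC (eq_of_le_of_card_ge hCyNQ (by rw [h, hNQ40])).ge
        have hc : ∀ d : Fin 41, d.1 ∣ 40 → 10 ∣ d.1 → d.1 ≠ 40 → d.1 = 10 ∨ d.1 = 20 := by decide +kernel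
        exact hc ⟨_, Nat.lt_succ_of_le (Nat.le_of_dvd (by norm_num) h1)⟩ h1 h10Cy h2
      have hCyZ : Cy ≤ NQ ⊓ Z := by
        refine fun w hw => ⟨hCyNQ hw, mem_centralizer_singleton_iff.2 (hcentral w fun a ha => ?_)⟩
        rcases hCy10 with h | h
        · rw [eq_of_le_of_card_ge hgCy (by rw [h, Nat.card_zpowers, hgo])] at ha ⊢
          exact mul_mem (mul_mem hw ha) (inv_mem hw)
        · have hidx : ((zpowers g).subgroupOf Cy).index = 2 := by
            have h' := card_mul_index ((zpowers g).subgroupOf Cy)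
            rw [Nat.card_congr (subgroupOfEquivOfLe hgCy).toEquiv, Nat.card_zpowers, hgo, h] at h'
            omega
          haveI := normal_of_index_eq_two hidx
          exact mem_subgroupOf.1 (‹((zpowers g).subgroupOf Cy).Normal›.conj_mem ⟨a, hgCy ha⟩
            (mem_subgroupOf.2 ha) ⟨w, hw⟩)
      rcases hCy10 with h | h
      · -- the involution is central in the normalizer of the five-subgroup
        have hle : NQ ≤ Z := fun w hw => mem_centralizer_singleton_iff.2 (hcentral w fun a ha => by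
          rw [eq_of_le_of_card_ge hgCy (by rw [h, Nat.card_zpowers, hgo])] at ha ⊢
          rw [hCy, mem_centralizer_singleton_iff]
          have hb : w⁻¹ * y * w ∈ Q := by simpa using (mem_normalizer_iff.1 (inv_mem hw) y).1 (mem_zpowers y)
          obtain ⟨j, hj⟩ := mem_zpowers_iff.1 hb
          have hc : a * (w⁻¹ * y * w) = w⁻¹ * y * w * a := by
            rw [← hj]
            exact ((show Commute a y from mem_centralizer_singleton_iff.1 ha).zpow_right j).eq
          calc w * a * w⁻¹ * y = w * (a * (w⁻¹ * y * w)) * w⁻¹ := by group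
            _ = w * (w⁻¹ * y * w * a) * w⁻¹ := by rw [hc]
            _ = y * (w * a * w⁻¹) := by group)
        rw [inf_eq_left.2 hle, hNQ40] at hd
        omega
      · -- the five-subgroup is central in its normalizer in the centralizer
        have heq : NQ ⊓ Z = Cy := (eq_of_le_of_card_ge hCyZ (by rw [h, hd])).symm
        let Q5 : Sylow 5 Z := Sylow.ofCard (Q.subgroupOf Z) (by
          rw [Nat.card_congr (subgroupOfEquivOfLe (zpowers_le.2 hyZ)).toEquiv, hQc, hcZ]
          rw [show (120 : ℕ).factorization 5 = 1 from factorization_eq_one Nat.prime_five (by norm_num) (by norm_num)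
            (by norm_num), pow_one])
        have hburn : normalizer ((Q5 : Subgroup Z) : Set Z) ≤ centralizer ((Q5 : Subgroup Z) : Set Z) := by
          intro a ha
          refine mem_centralizer_iff.2 fun b hb => Subtype.ext ?_
          obtain ⟨i, hi⟩ := mem_zpowers_iff.1 (mem_subgroupOf.1 (hb : b ∈ Q.subgroupOf Z))
          have haQ : (a : G) ∈ NQ := by
            refine mem_normalizer_iff.2 fun c => ⟨fun hc => ?_, fun hc => ?_⟩
            · have := (mem_normalizer_iff.1 ha ⟨c, zpowers_le.2 hyZ hc⟩).1 (show _ ∈ Q.subgroupOf Z from hc)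
              exact (mem_subgroupOf.1 (this : _ ∈ Q.subgroupOf Z))
            · have hcZ' : c ∈ Z := by
                have h1 := mul_mem (mul_mem (inv_mem a.2) (zpowers_le.2 hyZ hc)) a.2
                simpa [mul_assoc] using h1
              exact mem_subgroupOf.1 ((mem_normalizer_iff.1 ha ⟨c, hcZ'⟩).2 (show _ ∈ Q.subgroupOf Z from hc) :
                _ ∈ Q.subgroupOf Z)
          have : (a : G) ∈ Cy := heq ▸ ⟨haQ, a.2⟩
          show (b : G) * a = a * b
          rw [← hi]
          exact ((show Commute (a : G) y from mem_centralizer_singleton_iff.1 this).zpow_right i).eq.symm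
        obtain ⟨M, hMn, hM24⟩ : ∃ M : Subgroup Z, M.Normal ∧ Nat.card M = 24 := by
          refine ⟨(MonoidHom.transferSylow Q5 hburn).ker, MonoidHom.normal_ker _, ?_⟩
          have h' := (MonoidHom.ker_transferSylow_isComplement' Q5 hburn).card_mul_card
          rw [show Nat.card (Q5 : Subgroup Z) = 5 from (Nat.card_congr (subgroupOfEquivOfLe (zpowers_le.2 hyZ)).toEquiv).trans hQc,
            hcZ] at h'
          omega
        have hM24' : Nat.card (M.map Z.subtype) = 24 := by rw [card_map_of_injective Z.subtype_injective, hM24]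
        have hle : M.map Z.subtype ≤ centralizer ((Q : Subgroup G) : Set G) :=
          SmallDegreeGraph.le_centralizer_of_free (p := 5) (IsPGroup.of_card (n := 1) (by rw [hQc, pow_one]))
            (fun a ha => by
              have haZ : a ∈ Z := zpowers_le.2 hyZ ha
              refine mem_normalizer_iff.2 fun b => ?_
              constructor
              · rintro ⟨m, hm, rfl⟩
                exact ⟨⟨a, haZ⟩ * m * ⟨a, haZ⟩⁻¹, hMn.conj_mem m hm ⟨a, haZ⟩, rfl⟩
              · rintro ⟨m, hm, hm'⟩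
                refine ⟨⟨a, haZ⟩⁻¹ * m * ⟨a, haZ⟩, ?_, ?_⟩
                · simpa using hMn.conj_mem m hm (⟨a, haZ⟩⁻¹)
                · show a⁻¹ * (m : G) * a = b
                  rw [show (m : G) = a * b * a⁻¹ from hm']
                  group)
            (by rw [hM24']; norm_num)
            (SmallDegreeGraph.free_of_freeB Nat.card_pos.ne' (by first | (rw [hQc]; decide +kernel) | (rw [hM24']; decide +kernel)))
        rw [hQ, zpowers_eq_closure, centralizer_closure, ← hCy] at hle
        have := card_dvd_of_le hle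
        rw [hM24', h] at this
        norm_num at this
    · exfalso
      have h1 : 0 < Nat.card {R : Sylow 11 G // z • R = R} :=
        Finite.card_pos_iff.2 ⟨⟨P, Sylow.smul_eq_iff_mem_normalizer.2 hzN⟩⟩
      omega
  exact hZeq

theorem false_of_five {y z : G} (hF : Five P y z)
    (hZeq : centralizer ({z} : Set G) = normalizer ((zpowers y : Subgroup G) : Set G)) : False := by
  classical
  haveI : Fact (Nat.Prime 2) := ⟨Nat.prime_two⟩
  have hG := not_comm_of_sylows P (by rw [h144]; norm_num)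
  obtain ⟨hn, hy, hz, hzN, hzC, hzy, hnotC, hNQ40⟩ := hF
  set Q := zpowers y with hQ
  set NQ := normalizer ((Q : Subgroup G) : Set G) with hNQ
  set Cy := centralizer ({y} : Set G) with hCy
  set N := normalizer ((P : Subgroup G) : Set G) with hNdef
  have hz2 : z * z = 1 := by rw [← sq, ← hz, pow_orderOf_eq_one]
  have hz1 : z ≠ 1 := fun h => by rw [h, orderOf_one] at hz; omega
  have hy1 : y ≠ 1 := fun h => by rw [h, orderOf_one] at hy; omega
  have hQc : Nat.card Q = 5 := by rw [hQ, Nat.card_zpowers, hy]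
  have hsq5 : ¬ 5 ^ 2 ∣ Nat.card G := by rw [hn]; norm_num
  have hyNQ : y ∈ NQ := le_normalizer (mem_zpowers y)
  have hCyNQ : Cy ≤ NQ := by
    rw [hCy, hNQ, hQ, ← centralizer_closure, ← zpowers_eq_closure]
    exact centralizer_le_normalizer _
  obtain ⟨g, hg⟩ : ∃ g, g = z * y := ⟨_, rfl⟩
  have hg5 : g ^ 5 = z := by
    rw [hg, (show Commute z y from hzy).mul_pow, show y ^ 5 = 1 by rw [← hy, pow_orderOf_eq_one], mul_one]
    simp only [pow_succ, pow_zero, one_mul, hz2]
  have hgo : orderOf g = 10 := by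
    rw [hg, (show Commute z y from hzy).orderOf_mul_eq_mul_orderOf_of_coprime (by rw [hz, hy]; norm_num), hz, hy]
  have hgCy : zpowers g ≤ Cy := zpowers_le.2 (mem_centralizer_singleton_iff.2 (by
    rw [hg]
    calc z * y * y = y * z * y := by rw [hzy]
      _ = y * (z * y) := mul_assoc _ _ _))
  have h10Cy : 10 ∣ Nat.card Cy := by
    rw [← hgo, ← Nat.card_zpowers]
    exact card_dvd_of_le hgCy
  set Z := centralizer ({z} : Set G) with hZ
  have hyZ : y ∈ Z := mem_centralizer_singleton_iff.2 hzy.symm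
  -- the conjugates commuting with the involution
  obtain ⟨R0⟩ : Nonempty (Sylow 2 Z) := inferInstance
  set R := (R0 : Subgroup Z).map Z.subtype with hR
  have hcZ : Nat.card Z = 40 := by rw [hZeq, hNQ40]
  have hR8 : Nat.card R = 8 := by
    rw [hR, card_map_of_injective Z.subtype_injective,
      CfsgLib.SmallSimple.card_sylow_eq R0 (k := 3) (m := 5) (by rw [hcZ]; norm_num) (by norm_num)]
    norm_num
  have hRZ : R ≤ Z := map_subtype_le _
  obtain ⟨S, hS⟩ := (IsPGroup.of_card (p := 2) (n := 3) (G := R) (by rw [hR8]; norm_num)).exists_le_sylow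
  have hS32 : Nat.card (S : Subgroup G) = 2 ^ 5 := CfsgLib.SmallSimple.card_sylow_eq S (k := 5) (m := 495)
    (by rw [hn]; norm_num) (by norm_num)
  have hzR : z ∈ R := by
    haveI : (zpowers (⟨z, mem_centralizer_singleton_iff.2 rfl⟩ : Z)).Normal := ⟨fun a ha w => by
      obtain ⟨i, rfl⟩ := mem_zpowers_iff.1 ha
      refine mem_zpowers_iff.2 ⟨i, Subtype.ext ?_⟩
      have hc : Commute (w : G) (z ^ i) := (show Commute (w : G) z from mem_centralizer_singleton_iff.1 w.2).zpow_right i
      simp only [SubgroupClass.coe_zpow, coe_mul, InvMemClass.coe_inv]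
      rw [hc.eq, mul_inv_cancel_right]⟩
    have hpg : IsPGroup 2 (zpowers (⟨z, mem_centralizer_singleton_iff.2 rfl⟩ : Z)) :=
      IsPGroup.of_card (n := 1) (by rw [Nat.card_zpowers, orderOf_mk, hz, pow_one])
    exact ⟨_, hpg.le_sylow_of_normal R0 (mem_zpowers _), rfl⟩
  haveI : Nontrivial (S : Subgroup G) := Finite.one_lt_card_iff_nontrivial.1 (by rw [hS32]; norm_num)
  haveI := S.isPGroup'.center_nontrivial
  obtain ⟨⟨⟨u, huS⟩, huZ⟩, hu⟩ : ∃ u : center (S : Subgroup G), orderOf u = 2 := by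
    obtain ⟨n, hn'⟩ := IsPGroup.iff_card.1 (S.isPGroup'.to_subgroup (center (S : Subgroup G)))
    refine exists_prime_orderOf_dvd_card' 2 ?_
    rw [hn']
    refine dvd_pow_self 2 fun h0 => ?_
    have : 1 < Nat.card (center (S : Subgroup G)) := Finite.one_lt_card_iff_nontrivial.2 inferInstance
    rw [hn', h0] at this
    norm_num at this
  rw [orderOf_mk, orderOf_mk] at hu
  have hu2 : u * u = 1 := by rw [← sq, ← hu, pow_orderOf_eq_one]
  have hu1 : u ≠ 1 := fun h => by rw [h, orderOf_one] at hu; omega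
  have huS' : ∀ a ∈ (S : Subgroup G), a * u = u * a := fun a ha =>
    congrArg Subtype.val (mem_center_iff.1 huZ ⟨a, ha⟩)
  have h32 : 32 ∣ Nat.card (centralizer ({u} : Set G)) := by
    rw [show 32 = Nat.card (S : Subgroup G) by rw [hS32]; norm_num]
    exact card_dvd_of_le fun a ha => mem_centralizer_singleton_iff.2 (huS' a ha)
  have huZ' : u ∈ Z := mem_centralizer_singleton_iff.2 (huS' z (hS hzR)).symm
  have hcc : ∀ s, IsConj z s → Nat.card (centralizer ({s} : Set G)) = 40 := fun s hs => by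
    obtain ⟨a, rfl⟩ := isConj_iff.1 hs
    rw [← hcZ]
    refine (Nat.card_congr (Equiv.subtypeEquiv (MulAut.conj a).toEquiv fun b => ?_)).symm
    rw [hZ, mem_centralizer_singleton_iff, mem_centralizer_singleton_iff]
    show b * z = z * b ↔ MulAut.conj a b * MulAut.conj a z = MulAut.conj a z * MulAut.conj a b
    rw [← map_mul, ← map_mul, (MulAut.conj a).injective.eq_iff]
  have huz : ¬ IsConj z u := fun h => by
    rw [hcc u h] at h32
    norm_num at h32
  have huy : u * y ≠ y * u := fun huy => by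
    set D := centralizer ({u} : Set G) with hD
    have hle : NQ ≤ D := by
      have hQD : Q ≤ D := zpowers_le.2 (mem_centralizer_singleton_iff.2 huy.symm)
      have hRD : R ≤ D := fun a ha => mem_centralizer_singleton_iff.2 (huS' a (hS ha))
      have h5 : 5 ∣ Nat.card (NQ ⊓ D : Subgroup G) := hQc ▸ card_dvd_of_le (le_inf le_normalizer hQD)
      have h8 : 8 ∣ Nat.card (NQ ⊓ D : Subgroup G) := hR8 ▸ card_dvd_of_le (le_inf (hZeq ▸ hRZ) hRD)
      have := eq_of_le_of_card_ge (inf_le_left : NQ ⊓ D ≤ NQ) (by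
        rw [hNQ40]
        exact Nat.le_of_dvd Nat.card_pos (Nat.Coprime.mul_dvd_of_dvd_of_dvd (m := 8) (n := 5) (by norm_num) h8 h5))
      rw [← this]
      exact inf_le_right
    obtain ⟨k, hk, hkD⟩ := exists_count hsq5 hy (hle hyNQ)
    rw [← hQ, ← hNQ, inf_eq_left.2 hle, hNQ40] at hkD
    have hk396 : k ∣ 396 := by
      have h : k * 40 ∣ 396 * 40 := by
        rw [← hkD, show 396 * 40 = Nat.card G from hn.symm]
        exact card_subgroup_dvd_card D
      exact Nat.dvd_of_mul_dvd_mul_right (by norm_num) h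
    have hcases : ∀ k : Fin 397, k.1 ∣ 396 → k.1 % 5 = 1 → 4 ∣ k.1 → k.1 = 36 ∨ k.1 = 396 := by decide +kernel
    rcases hcases ⟨k, Nat.lt_succ_of_le (Nat.le_of_dvd (by norm_num) hk396)⟩ hk396 hk
      (show 4 ∣ k by rw [hkD] at h32; omega) with h | h <;> simp only at h
    · have hidx : D.index = 11 := by
        have h1 := D.card_mul_index
        rw [hkD, h, hn] at h1
        omega
      have hDtop : D ≠ ⊤ := fun h' => by rw [h', index_top] at hidx; omega
      obtain ⟨kk, hkk⟩ := involution_parity hG (v := z) (by rw [sq, hz2]) (G ⧸ D)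
      rw [← index_eq_card, hidx] at hkk
      have hfree : ∀ a ∈ (P : Subgroup G), ∀ c : G ⧸ D, a • c = c → a = 1 := by
        intro a ha c hc
        by_contra ha1
        induction c using QuotientGroup.induction_on with
        | _ b =>
          rw [MulAction.Quotient.smul_coe, QuotientGroup.eq, smul_eq_mul, mul_inv_rev] at hc
          have h2 : b⁻¹ * a * b ∈ D := by simpa [mul_assoc] using inv_mem hc
          have h3 := orderOf_dvd_natCard _ h2
          rw [show b⁻¹ * a * b = MulAut.conj b⁻¹ a by simp, MulEquiv.orderOf_eq,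
            (zpowers_eq_of_mem_sylow (hP11 P) ha ha1).2, hkD, h] at h3
          norm_num at h3
      have hbij : ∀ c : G ⧸ D, Function.Surjective fun a : (P : Subgroup G) => (a : G) • c := by
        intro c
        refine (Function.Injective.bijective_of_nat_card_le (fun a b h => ?_) ?_).2
        · have : ((b : G)⁻¹ * a) • c = c := by rw [mul_smul]; exact inv_smul_eq_iff.2 h
          exact Subtype.ext (inv_mul_eq_one.1 (hfree _ (mul_mem (inv_mem b.2) a.2) c this)).symm
        · rw [← index_eq_card, hidx, hP11 P]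
      have hone : Nat.card {c : G ⧸ D // z • c = c} ≤ 1 := by
        rw [Finite.card_le_one_iff_subsingleton]
        refine ⟨fun c d => Subtype.ext ?_⟩
        obtain ⟨a, ha⟩ := hbij c.1 d.1
        simp only at ha
        have h1 : z * a * z⁻¹ ∈ (P : Subgroup G) := (mem_normalizer_iff.1 hzN a).1 a.2
        have h2 : ((a : G)⁻¹ * (z * a * z⁻¹)) • c.1 = c.1 := by
          rw [mul_smul, mul_smul, mul_smul, inv_smul_eq_iff.2 c.2.symm, ha, d.2, ← ha, inv_smul_smul]
        have h3 := hfree _ (mul_mem (inv_mem a.2) h1) _ h2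
        have ha1 : (a : G) = 1 := by
          by_contra ha1
          refine hzC ?_
          rw [← (zpowers_eq_of_mem_sylow (hP11 P) a.2 ha1).1, zpowers_eq_closure, centralizer_closure,
            mem_centralizer_singleton_iff]
          exact mul_inv_eq_iff_eq_mul.1 (inv_mul_eq_one.1 h3).symm
        rw [← ha, ha1, one_smul]
      omega
    · have htop : D = ⊤ := (card_eq_iff_eq_top D).1 (by rw [hkD, h, hn])
      have hmem : u ∈ center G := mem_center_iff.2 fun a =>
        mem_centralizer_singleton_iff.1 (show a ∈ D by rw [htop]; exact mem_top a)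
      rcases IsSimpleGroup.eq_bot_or_eq_top_of_normal (center G) inferInstance with e | e
      · exact hu1 ((mem_bot).1 (e ▸ hmem))
      · exact hG ⟨⟨fun a b => mem_center_iff.1 (e ▸ mem_top b) a⟩⟩
  have hcommQ : ∀ s, IsConj z s → s * z = z * s → s * y = y * s → s = z := by
    intro s hs hsz hsy
    obtain ⟨a, rfl⟩ := isConj_iff.1 hs
    have h1 : a⁻¹ * y * a ∈ NQ := by
      rw [← hZeq, hZ, mem_centralizer_singleton_iff]
      calc a⁻¹ * y * a * z = a⁻¹ * (y * (a * z * a⁻¹)) * a := by group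
        _ = a⁻¹ * (a * z * a⁻¹ * y) * a := by rw [hsy]
        _ = z * (a⁻¹ * y * a) := by group
    obtain ⟨m, hm⟩ := sylow_conj (p := 5) (fun hd => hsq5 (hd.trans (card_subgroup_dvd_card NQ)))
      (g := (⟨y, hyNQ⟩ : NQ)) (g' := ⟨_, h1⟩) (by rw [orderOf_mk, hy]) (by
        rw [orderOf_mk, show a⁻¹ * y * a = MulAut.conj a⁻¹ y by simp, MulEquiv.orderOf_eq, hy])
    obtain ⟨i, hi⟩ := hm
    have hi' : y ^ i = (m : G) * (a⁻¹ * y * a) * (m : G)⁻¹ := congrArg Subtype.val hi
    have h2 : (m : G)⁻¹ * y ^ i * m ∈ Q := by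
      simpa using (mem_normalizer_iff.1 (inv_mem m.2) (y ^ i)).1 (zpow_mem (mem_zpowers y) i)
    have h3 : a⁻¹ * y * a ∈ Q := by
      rw [hi'] at h2
      simpa [mul_assoc] using h2
    have haNQ : a⁻¹ ∈ NQ := by
      have hz' : zpowers (a⁻¹ * y * a) = Q := zpowers_eq_of_mem hy (by
        rw [show a⁻¹ * y * a = MulAut.conj a⁻¹ y by simp, MulEquiv.orderOf_eq, hy]) h3
      refine mem_normalizer_iff.2 fun b => ⟨fun hb => ?_, fun hb => ?_⟩
      · obtain ⟨j, rfl⟩ := hb
        rw [inv_inv, ← hz']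
        refine ⟨j, ?_⟩
        show (a⁻¹ * y * a) ^ j = a⁻¹ * y ^ j * a
        simpa using conj_zpow (a := a⁻¹) (b := y) (i := j)
      · rw [inv_inv, ← hz'] at hb
        obtain ⟨j, hj⟩ := hb
        refine ⟨j, (MulAut.conj a⁻¹).injective ?_⟩
        rw [map_zpow]
        simpa using hj
    have h4 : a ∈ Z := hZeq ▸ inv_mem_iff.1 haNQ
    rw [mem_centralizer_singleton_iff.1 h4, mul_inv_cancel_right]
  -- the set of other conjugates
  set W := R ⊓ Cy with hW
  have hW4 : Nat.card W ∣ 4 := by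
    have h1 : Nat.card W ∣ 8 := hR8 ▸ card_dvd_of_le inf_le_left
    have h2 : Nat.card Cy ∣ 40 := hNQ40 ▸ card_dvd_of_le hCyNQ
    have h3 : Nat.card W ∣ Nat.card Cy := card_dvd_of_le inf_le_right
    have h4 : Nat.card Cy ≠ 40 := fun h => hnotC (eq_of_le_of_card_ge hCyNQ (by rw [h, hNQ40])).ge
    have hc : ∀ w : Fin 9, ∀ d : Fin 41, w.1 ∣ 8 → d.1 ∣ 40 → w.1 ∣ d.1 → 10 ∣ d.1 → d.1 ≠ 40 → w.1 ∣ 4 := by
      decide +kernel
    exact hc ⟨_, Nat.lt_succ_of_le (Nat.le_of_dvd (by norm_num) h1)⟩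
      ⟨_, Nat.lt_succ_of_le (Nat.le_of_dvd (by norm_num) h2)⟩ h1 h2 h3 h10Cy h4
  have hsI : ∀ s, IsConj z s → s ∈ R → s ≠ z → (u * s ∈ W ∧ (u * s) * (u * s) = 1 ∧ u * s ≠ 1) := by
    intro s hs hsR hsne
    have hs2 : s * s = 1 := by
      obtain ⟨a, rfl⟩ := isConj_iff.1 hs
      rw [conj_mul, hz2]; group
    have hsy : s * y ≠ y * s := fun h => hsne (hcommQ s hs (mem_centralizer_singleton_iff.1 (hRZ hsR)) h)
    have i1 := inverts_five hy (hZeq ▸ huZ' : u ∈ NQ) hu2 huy
    have i2 := inverts_five hy (hZeq ▸ hRZ hsR : s ∈ NQ) hs2 hsy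
    have hsu : s * u = u * s := huS' s (hS hsR)
    refine ⟨⟨?_, ?_⟩, ?_, fun h => huz ?_⟩
    · refine mul_mem ?_ hsR
      have hle : R ⊔ zpowers u ≤ (S : Subgroup G) := sup_le hS (zpowers_le.2 huS)
      by_contra huR
      have hle' : R ⊔ zpowers u ≤ Z := sup_le hRZ (zpowers_le.2 huZ')
      have hp2 : ∃ n, Nat.card (R ⊔ zpowers u : Subgroup G) = 2 ^ n :=
        IsPGroup.iff_card.1 (S.isPGroup'.to_le hle)
      obtain ⟨n, hn2⟩ := hp2
      have hd : 2 ^ n ∣ 40 := hn2 ▸ hcZ ▸ card_dvd_of_le hle'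
      have hn3 : n ≤ 3 := by
        by_contra hc
        have := (pow_dvd_pow 2 (show 4 ≤ n by omega)).trans hd
        norm_num at this
      have h8 : 2 ^ n ≤ 2 ^ 3 := Nat.pow_le_pow_right (by norm_num) hn3
      exact huR ((eq_of_le_of_card_ge (le_sup_left : R ≤ R ⊔ zpowers u) (by rw [hn2, hR8]; omega)).ge
        (mem_sup_right (mem_zpowers u)))
    · rw [hCy]
      show u * s ∈ centralizer ({y} : Set G)
      rw [mem_centralizer_singleton_iff]
      refine mul_inv_eq_iff_eq_mul.1 ?_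
      calc u * s * y * (u * s)⁻¹ = u * (s * y * s⁻¹) * u⁻¹ := by group
        _ = y := by rw [i2, ← conj_inv, i1, inv_inv]
    · calc u * s * (u * s) = u * (s * u) * s := by group
        _ = u * u * (s * s) := by rw [hsu]; group
        _ = 1 := by rw [hu2, hs2, one_mul]
    · rw [show u = s by rw [eq_inv_of_mul_eq_one_left h, inv_eq_of_mul_eq_one_right hs2]]
      exact hs
  set I := {s : G // IsConj z s ∧ Commute z s ∧ s ≠ z} with hI
  set IR := {s : G // IsConj z s ∧ s ∈ R ∧ s ≠ z} with hIR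
  have hI5 : Nat.card I = 5 * Nat.card IR := by
    rw [← hQc, ← Nat.card_prod]
    refine (Nat.card_eq_of_bijective (fun p : Q × IR => (⟨(p.1 : G) * p.2.1 * (p.1 : G)⁻¹, ?_, ?_, ?_⟩ : I)) ⟨?_, ?_⟩).symm
    · exact p.2.2.1.trans (isConj_iff.2 ⟨p.1, rfl⟩)
    · have h1 : (p.1 : G) * p.2.1 * (p.1 : G)⁻¹ ∈ Z := by
        have hq : (p.1 : G) ∈ Z := zpowers_le.2 hyZ p.1.2
        exact mul_mem (mul_mem hq (hRZ p.2.2.2.1)) (inv_mem hq)
      exact (mem_centralizer_singleton_iff.1 h1).symm
    · intro h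
      have hq : (p.1 : G) ∈ Z := zpowers_le.2 hyZ p.1.2
      refine p.2.2.2.2 ((MulAut.conj (p.1 : G)).injective ?_)
      simp only [MulAut.conj_apply]
      rw [h, mem_centralizer_singleton_iff.1 hq, mul_inv_cancel_right]
    · rintro ⟨q1, s1⟩ ⟨q2, s2⟩ h
      have h' : (q1 : G) * s1.1 * (q1 : G)⁻¹ = (q2 : G) * s2.1 * (q2 : G)⁻¹ := congrArg Subtype.val h
      set d := (q2 : G)⁻¹ * q1 with hd
      have hdQ : d ∈ Q := mul_mem (inv_mem q2.2) q1.2
      have h2 : d * s1.1 * d⁻¹ = s2.1 := by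
        rw [hd, show (q2 : G)⁻¹ * q1 * s1.1 * ((q2 : G)⁻¹ * q1)⁻¹ = (q2 : G)⁻¹ * (q1 * s1.1 * (q1 : G)⁻¹) * q2 by group, h']
        group
      have hy1' : s1.1 * y ≠ y * s1.1 := fun hc =>
        s1.2.2.2 (hcommQ s1.1 s1.2.1 (mem_centralizer_singleton_iff.1 (hRZ s1.2.2.1)) hc)
      have hs2' : s1.1 * s1.1 = 1 := by
        obtain ⟨a, ha⟩ := isConj_iff.1 s1.2.1
        rw [← ha, conj_mul, hz2]; group
      have hinv := inverts_five hy (hZeq ▸ hRZ s1.2.2.1 : s1.1 ∈ NQ) hs2' hy1'
      obtain ⟨i, hi⟩ := mem_zpowers_iff.1 hdQ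
      have h3 : s1.1 * d⁻¹ * s1.1⁻¹ = d := by rw [← hi, ← zpow_neg, ← conj_zpow, hinv, inv_zpow', neg_neg]
      have h4 : d * d * s1.1 = s2.1 := by
        rw [← h2]
        conv_lhs => arg 1; arg 2; rw [← h3]
        group
      have h5 : d * d ∈ R := by
        rw [eq_mul_inv_of_mul_eq h4]
        exact mul_mem s2.2.2.1 (inv_mem s1.2.2.1)
      have h6 : orderOf (d * d) ∣ 1 := by
        have := Nat.dvd_gcd (orderOf_dvd_natCard _ (mul_mem hdQ hdQ)) (orderOf_dvd_natCard _ h5)
        rwa [hQc, hR8, show Nat.gcd 5 8 = 1 from rfl] at this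
      have h7 : d = 1 := by
        have h6' := orderOf_eq_one_iff.1 (Nat.dvd_one.1 h6)
        have h55 : d ^ 5 = 1 := by rw [← orderOf_dvd_iff_pow_eq_one, ← hQc]; exact orderOf_dvd_natCard _ hdQ
        calc d = d * ((d * d) * (d * d)) := by rw [h6', mul_one, mul_one]
          _ = d ^ 5 := by simp only [pow_succ, pow_zero, one_mul, mul_assoc]
          _ = 1 := h55
      have hq12 : q1 = q2 := Subtype.ext (inv_mul_eq_one.1 h7).symm
      refine Prod.ext hq12 (Subtype.ext ?_)
      rw [← h2, h7, inv_one, mul_one, one_mul]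
    · rintro ⟨s, hs, hsz, hsne⟩
      have hsZ : s ∈ Z := mem_centralizer_singleton_iff.2 hsz.eq.symm
      have hs2 : s * s = 1 := by
        obtain ⟨a, ha⟩ := isConj_iff.1 hs
        rw [← ha, conj_mul, hz2]; group
      have hso : IsPGroup 2 (zpowers (⟨s, hsZ⟩ : Z)) := by
        intro v
        refine ⟨1, Subtype.ext ?_⟩
        obtain ⟨i, hi⟩ := mem_zpowers_iff.1 v.2
        rw [pow_one, SubgroupClass.coe_pow, ← hi, OneMemClass.coe_one, sq, ← (Commute.refl _).mul_zpow,
          show (⟨s, hsZ⟩ : Z) * ⟨s, hsZ⟩ = 1 from Subtype.ext hs2, one_zpow]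
      obtain ⟨R1, hR1⟩ := hso.exists_le_sylow
      obtain ⟨a, ha⟩ := MulAction.exists_smul_eq Z R0 R1
      have hmem : (⟨s, hsZ⟩ : Z) ∈ ((a • R0 : Sylow 2 Z) : Subgroup Z) := by rw [ha]; exact hR1 (mem_zpowers _)
      obtain ⟨r, hr, hr'⟩ := hmem
      have hr'' : (a : G) * r * (a : G)⁻¹ = s := congrArg Subtype.val hr'
      -- split the conjugating element
      have haQR : (a : G) ∈ Q ⊔ R := by
        have hle : Q ⊔ R ≤ Z := sup_le (zpowers_le.2 hyZ) hRZ
        rw [eq_of_le_of_card_ge hle (by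
          rw [hcZ]
          exact Nat.le_of_dvd Nat.card_pos (Nat.Coprime.mul_dvd_of_dvd_of_dvd (m := 5) (n := 8) (by norm_num)
            (hQc ▸ card_dvd_of_le le_sup_left) (hR8 ▸ card_dvd_of_le le_sup_right)))]
        exact a.2
      rw [← SetLike.mem_coe, coe_mul_of_right_le_normalizer_left Q R (fun b hb => hZeq ▸ hRZ hb : R ≤ NQ)] at haQR
      obtain ⟨q, hq, b, hb, hab⟩ := haQR
      simp only at hab
      refine ⟨(⟨q, hq⟩, ⟨b * r * b⁻¹, ?_, ?_, ?_⟩), Subtype.ext ?_⟩
      · refine hs.trans (isConj_iff.2 ⟨b * (a : G)⁻¹, ?_⟩)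
        rw [← hr'']; group
      · exact mul_mem (mul_mem hb ⟨r, hr, rfl⟩) (inv_mem hb)
      · intro h
        refine hsne ?_
        have hq' : q ∈ Z := zpowers_le.2 hyZ hq
        rw [← hr'', ← hab, show q * b * r * (q * b)⁻¹ = q * (b * r * b⁻¹) * q⁻¹ by group, h,
          mem_centralizer_singleton_iff.1 hq', mul_inv_cancel_right]
      · show q * (b * r * b⁻¹) * q⁻¹ = s
        rw [← hr'', ← hab]; group
  have hall : Nat.card {s : G // IsConj z s ∧ Commute z s} = Nat.card I + 1 := by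
    haveI := Fintype.ofFinite G
    rw [Nat.card_eq_fintype_card, Nat.card_eq_fintype_card, Fintype.card_subtype, Fintype.card_subtype]
    rw [show (Finset.univ.filter fun s => IsConj z s ∧ Commute z s ∧ s ≠ z) =
      (Finset.univ.filter fun s => IsConj z s ∧ Commute z s).erase z by ext s; simp [and_assoc, and_comm, and_left_comm],
      Finset.card_erase_add_one]
    exact Finset.mem_filter.2 ⟨Finset.mem_univ _, IsConj.refl z, Commute.refl z⟩
  obtain ⟨k4, hk4⟩ := involution_parity hG (v := z) (by rw [sq, hz2]) (G ⧸ centralizer ({z} : Set G))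
  rw [← index_eq_card, card_fixed_centralizer, hall, hI5] at hk4
  have hidx : (centralizer ({z} : Set G)).index = 396 := by
    have h := Subgroup.card_mul_index Z
    rw [hcZ, hn] at h
    rw [← hZ]
    omega
  rw [hidx] at hk4
  -- hence all of `u W` outside `u` is conjugate to the involution
  haveI := Fintype.ofFinite W
  set f : IR → {w : W // (w : G) ≠ 1} := fun s => ⟨⟨u * s.1, (hsI s.1 s.2.1 s.2.2.1 s.2.2.2).1⟩,
    (hsI s.1 s.2.1 s.2.2.1 s.2.2.2).2.2⟩ with hf
  have hfinj : Function.Injective f := fun a b h => Subtype.ext (mul_left_cancel (congrArg (fun w => ((w.1 : W) : G)) h))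
  have hW1 : Nat.card {w : W // (w : G) ≠ 1} = Nat.card W - 1 := by
    rw [Nat.card_eq_fintype_card, Nat.card_eq_fintype_card,
      ← Fintype.card_congr (Equiv.subtypeEquivRight (fun w : W => (show w ≠ 1 ↔ (w : G) ≠ 1 by simp))),
      Fintype.card_subtype_compl, Fintype.card_subtype_eq]
  have hle3 := Nat.card_le_card_of_injective f hfinj
  rw [hW1] at hle3
  have hWle : Nat.card W ≤ 4 := Nat.le_of_dvd (by norm_num) hW4
  have hk3 : Nat.card IR = 3 ∧ Nat.card W = 4 := by omega
  have hsurj : Function.Surjective f :=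
    ((Nat.bijective_iff_injective_and_card f).2 ⟨hfinj, by rw [hW1, hk3.2, hk3.1]⟩).2
  have huw : ∀ w ∈ W, w ≠ 1 → IsConj z (u * w) ∧ u * w ∈ R ∧ w * w = 1 := by
    intro w hw hw1
    obtain ⟨s, hs⟩ := hsurj ⟨⟨w, hw⟩, hw1⟩
    have hs' : u * s.1 = w := congrArg (fun w => ((w.1 : W) : G)) hs
    have hsw : u * w = s.1 := by rw [← hs', ← mul_assoc, hu2, one_mul]
    exact ⟨hsw ▸ s.2.1, hsw ▸ s.2.2.1, hs' ▸ (hsI s.1 s.2.1 s.2.2.1 s.2.2.2).2.1⟩
  have hzW : z ∈ W := ⟨hzR, mem_centralizer_singleton_iff.2 hzy⟩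
  obtain ⟨hconjuz, huzR, -⟩ := huw z hzW hz1
  have huR : u ∈ R := by
    have := mul_mem huzR hzR
    rwa [mul_assoc, hz2, mul_one] at this
  have huW : u ∉ W := fun h => huy (mem_centralizer_singleton_iff.1 h.2)
  have hidxW : (W.subgroupOf R).index = 2 := by
    have h := card_mul_index (W.subgroupOf R)
    rw [Nat.card_congr (subgroupOfEquivOfLe (inf_le_left : W ≤ R)).toEquiv, hR8, hk3.2] at h
    omega
  have hsplit : ∀ r ∈ R, r ∈ W ∨ u * r ∈ W := by
    intro r hr
    by_cases hrW : r ∈ W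
    · exact Or.inl hrW
    · refine Or.inr ?_
      have h := mul_mem_iff_of_index_two hidxW (a := (⟨u, huR⟩ : R)) (b := ⟨r, hr⟩)
      simp only [mem_subgroupOf, coe_mul] at h
      exact h.2 (by simp [huW, hrW])
  have hsq1 : ∀ r ∈ R, r * r = 1 := by
    intro r hr
    rcases hsplit r hr with h | h
    · by_cases h1 : r = 1
      · rw [h1, one_mul]
      · exact (huw r h h1).2.2
    · by_cases h1 : u * r = 1
      · rw [eq_inv_of_mul_eq_one_right h1, ← mul_inv_rev, hu2, inv_one]
      · have h2 := (huw _ h h1).2.2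
        calc r * r = u * u * (r * r) := by rw [hu2, one_mul]
          _ = u * (r * u) * r := by rw [huS' r (hS hr)]; group
          _ = 1 := by rw [← h2]; group
  have hRcomm : ∀ a ∈ R, ∀ b ∈ R, a * b = b * a := fun a ha b hb => by
    have hinv : ∀ c ∈ R, c⁻¹ = c := fun c hc => inv_eq_of_mul_eq_one_right (hsq1 c hc)
    calc a * b = (a * b)⁻¹ := (hinv _ (mul_mem ha hb)).symm
      _ = b⁻¹ * a⁻¹ := mul_inv_rev a b
      _ = b * a := by rw [hinv a ha, hinv b hb]
  obtain ⟨w, hw, hw1, hwz⟩ : ∃ w ∈ W, w ≠ 1 ∧ w ≠ z := by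
    by_contra hc
    push Not at hc
    have : (Finset.univ : Finset W) ⊆ ({1, ⟨z, hzW⟩} : Finset W) := fun v _ => by
      by_cases hv : (v : G) = 1
      · exact Finset.mem_insert.2 (Or.inl (Subtype.ext hv))
      · exact Finset.mem_insert.2 (Or.inr (Finset.mem_singleton.2 (Subtype.ext (hc v v.2 hv))))
    have h := (Finset.card_le_card this).trans Finset.card_le_two
    rw [Finset.card_univ, ← Nat.card_eq_fintype_card, hk3.2] at h
    omega
  have hWz : ∀ v ∈ W, v ≠ z → ¬ IsConj z v := fun v hv hvz hc =>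
    hvz (hcommQ v hc (mem_centralizer_singleton_iff.1 (hRZ hv.1)) (mem_centralizer_singleton_iff.1 hv.2))
  -- an element normalising the elementary group moves the involution to `u z`
  obtain ⟨g0, hg0⟩ := isConj_iff.1 hconjuz
  set D := centralizer ({u * z} : Set G) with hD
  have hDc : Nat.card D = 40 := hcc _ hconjuz
  have hRD : R ≤ D := fun a ha => mem_centralizer_singleton_iff.2 (hRcomm a ha _ huzR)
  set R' := R.map (MulAut.conj g0).toMonoidHom with hR'
  have hR'D : R' ≤ D := by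
    rintro _ ⟨a, ha, rfl⟩
    rw [hD, mem_centralizer_singleton_iff, ← hg0]
    show g0 * a * g0⁻¹ * (g0 * z * g0⁻¹) = g0 * z * g0⁻¹ * (g0 * a * g0⁻¹)
    rw [conj_mul, conj_mul, hRcomm a ha z hzR]
  have hR'8 : Nat.card R' = 8 := by rw [hR', card_map_of_injective (MulAut.conj g0).injective, hR8]
  have hmult : (Nat.card D).factorization 2 = 3 := by
    rw [hDc, show 40 = 2 ^ 3 * 5 from rfl, Nat.factorization_mul (by norm_num) (by norm_num), Finsupp.add_apply,
      Nat.Prime.factorization_pow Nat.prime_two, Finsupp.single_eq_same,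
      Nat.factorization_eq_zero_of_not_dvd (by norm_num)]
  let A : Sylow 2 D := Sylow.ofCard (R.subgroupOf D) (by
    rw [Nat.card_congr (subgroupOfEquivOfLe hRD).toEquiv, hR8, hmult]; norm_num)
  let A' : Sylow 2 D := Sylow.ofCard (R'.subgroupOf D) (by
    rw [Nat.card_congr (subgroupOfEquivOfLe hR'D).toEquiv, hR'8, hmult]; norm_num)
  obtain ⟨d, hd⟩ := MulAction.exists_smul_eq D A' A
  set φ := MulAut.conj ((d : G) * g0) with hφ
  have hφR : ∀ a ∈ R, φ a ∈ R := by
    intro a ha
    have h1 : (⟨g0 * a * g0⁻¹, hR'D ⟨a, ha, rfl⟩⟩ : D) ∈ (A' : Subgroup D) := mem_subgroupOf.2 ⟨a, ha, rfl⟩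
    have h2 : MulAut.conj d ⟨g0 * a * g0⁻¹, hR'D ⟨a, ha, rfl⟩⟩ ∈ ((d • A' : Sylow 2 D) : Subgroup D) := ⟨_, h1, rfl⟩
    rw [hd] at h2
    have h3 : (d : G) * (g0 * a * g0⁻¹) * (d : G)⁻¹ ∈ R := mem_subgroupOf.1 h2
    show (d : G) * g0 * a * ((d : G) * g0)⁻¹ ∈ R
    rwa [show (d : G) * g0 * a * ((d : G) * g0)⁻¹ = (d : G) * (g0 * a * g0⁻¹) * (d : G)⁻¹ by group]
  have hφz : φ z = u * z := by
    show (d : G) * g0 * z * ((d : G) * g0)⁻¹ = u * z
    rw [show (d : G) * g0 * z * ((d : G) * g0)⁻¹ = (d : G) * (g0 * z * g0⁻¹) * (d : G)⁻¹ by group, hg0,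
      mem_centralizer_singleton_iff.1 d.2, mul_inv_cancel_right]
  have hB : ∀ v ∈ W, v ≠ 1 → v ≠ z → φ v = u ∨ φ v = w ∨ φ v = w * z := by
    intro v hv hv1 hvz
    have hnc : ¬ IsConj z (φ v) := fun hc => hWz v hv hvz (hc.trans (isConj_iff.2 ⟨_, rfl⟩ : IsConj v (φ v)).symm)
    rcases hsplit _ (hφR v hv.1) with h | h
    · have h1 : φ v ≠ 1 := fun h1 => hv1 ((map_eq_one_iff _ φ.injective).1 h1)
      have h2 : φ v ≠ z := fun h2 => hnc (h2 ▸ IsConj.refl z)
      by_contra hc
      push Not at hc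
      have hwz' : w * z ≠ 1 ∧ w * z ≠ z ∧ w * z ≠ w :=
        ⟨fun e => hwz (by rw [eq_inv_of_mul_eq_one_left e, inv_eq_of_mul_eq_one_right hz2]),
          fun e => hw1 (mul_eq_right.1 e), fun e => hz1 (mul_eq_left.1 e)⟩
      have hsub : ({1, ⟨z, hzW⟩, ⟨w, hw⟩, ⟨w * z, mul_mem hw hzW⟩, ⟨φ v, h⟩} : Finset W).card ≤ 4 := by
        rw [← hk3.2, Nat.card_eq_fintype_card]
        exact Finset.card_le_univ _
      rw [Finset.card_insert_of_notMem, Finset.card_insert_of_notMem, Finset.card_insert_of_notMem,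
        Finset.card_insert_of_notMem, Finset.card_singleton] at hsub
      · omega
      · simp only [Finset.mem_singleton, Subtype.ext_iff]
        exact Ne.symm hc.2.2
      · simp only [Finset.mem_insert, Finset.mem_singleton, Subtype.ext_iff, not_or]
        exact ⟨fun e => hwz'.2.2 e.symm, fun e => hc.2.1 e.symm⟩
      · simp only [Finset.mem_insert, Finset.mem_singleton, Subtype.ext_iff, not_or]
        exact ⟨fun e => hwz e.symm, fun e => hwz'.2.1 e.symm, fun e => h2 e.symm⟩
      · simp only [Finset.mem_insert, Finset.mem_singleton, Subtype.ext_iff, OneMemClass.coe_one, not_or]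
        exact ⟨fun e => hz1 e.symm, fun e => hw1 e.symm, fun e => hwz'.1 e.symm, fun e => h1 e.symm⟩
    · left
      by_contra hc
      refine hnc ?_
      have h1 : u * φ v ≠ 1 := fun e => hc (by rw [eq_inv_of_mul_eq_one_right e, inv_eq_of_mul_eq_one_right hu2])
      have h2 := (huw _ h h1).1
      rwa [← mul_assoc, hu2, one_mul] at h2
  have hww : w * w = 1 := (huw w hw hw1).2.2
  have hzw : z * w = w * z := (mem_centralizer_singleton_iff.1 (hRZ hw.1)).symm
  have hprod : φ w * φ (w * z) = u * z := by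
    rw [← map_mul, ← mul_assoc, hww, one_mul, hφz]
  have hwz1 : w * z ≠ 1 := fun e => hwz (by rw [eq_inv_of_mul_eq_one_left e, inv_eq_of_mul_eq_one_right hz2])
  have hwzz : w * z ≠ z := fun e => hw1 (mul_eq_right.1 e)
  have huwc : u * w = w * u := (huS' w (hS hw.1)).symm
  have huzc : u * z = z * u := (huS' z (hS hzR)).symm
  have hinv : φ w = φ (w * z) → False := fun e => hz1 (mul_eq_left.1 (φ.injective e).symm)
  rcases hB w hw hw1 hwz with h1 | h1 | h1 <;>
    rcases hB (w * z) (mul_mem hw hzW) hwz1 hwzz with h2 | h2 | h2 <;>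
    first
    | exact hinv (h1.trans h2.symm)
    | (rw [h1, h2] at hprod
       first
       | exact hwz (mul_left_cancel hprod)
       | exact hw1 (mul_eq_right.1 (mul_left_cancel hprod))
       | exact hwz (mul_left_cancel (huwc.trans hprod))
       | exact hu1 (mul_eq_right.1 (show u * z = z by rw [← hprod, ← mul_assoc, hww, one_mul]))
       | exact hu1 (mul_eq_right.1 (show u * z = z by rw [← hprod, mul_assoc, hzw, ← mul_assoc, hww, one_mul]))
       | exact hw1 (mul_eq_right.1 (mul_left_cancel (a := u) (show u * (w * z) = u * z by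
           rw [← hprod, ← mul_assoc, huwc, mul_assoc, huzc, ← mul_assoc]))))

/-- **Order 15840.** -/
theorem kill_15840
    (hC : Nat.card (centralizer ((P : Subgroup G) : Set G)) = 11)
    (hN : Nat.card (normalizer ((P : Subgroup G) : Set G)) = 110) : False := by
  obtain ⟨y, z, hF, hyN⟩ := exists_five hP11 h144 P hC hN
  exact false_of_five hP11 h144 P hF (centralizer_eq_normalizer hP11 h144 P hF hyN hN)

end CfsgLib.M12Graph
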