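import Cfsg.Agent.M12Graph.Eleven

/-!
# Impossible configurations with 144 Sylow 11-subgroups: nontrivial centralizer
-/

set_option autoImplicit false
set_option linter.style.haveILetI false
set_option linter.unusedSectionVars false

namespace CfsgLib.M12Graph

open Subgroup MulAction CfsgLib.FixedPoints

variable {G : Type*} [Group G] [Finite G]

/-- An element of prime order normalising the Sylow subgroup centralises it unless that prime divides
the index of the centralizer in the normalizer. -/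
theorem mem_centralizer_of_coprime (A : Subgroup G) {e q : ℕ}
    (he : (centralizer (A : Set G)).relIndex (normalizer (A : Set G)) = e) (hq : q.Prime) (hqe : ¬ q ∣ e) {u : G}
    (hu : u ∈ normalizer (A : Set G)) (huq : u ^ q = 1) : u ∈ centralizer (A : Set G) := by
  set C := (centralizer (A : Set G)).subgroupOf (normalizer (A : Set G))
  haveI : C.Normal := ⟨fun a ha g => by
    rw [mem_subgroupOf, mem_centralizer_iff] at ha ⊢
    intro b hb
    have hb' : (g : G)⁻¹ * b * g ∈ A := by
      have := (mem_normalizer_iff.1 (inv_mem g.2) b).1 hb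
      simpa using this
    have h := ha _ hb'
    push_cast
    calc b * ((g : G) * a * (g : G)⁻¹) = g * ((g : G)⁻¹ * b * g * a) * (g : G)⁻¹ := by group
      _ = g * (a * ((g : G)⁻¹ * b * g)) * (g : G)⁻¹ := by rw [h]
      _ = (g : G) * a * (g : G)⁻¹ * b := by group⟩
  have h1 : orderOf (QuotientGroup.mk' C ⟨u, hu⟩) ∣ q :=
    orderOf_dvd_of_pow_eq_one (by rw [← map_pow, show (⟨u, hu⟩ : normalizer (A : Set G)) ^ q = 1 from
      Subtype.ext huq, map_one])
  have h2 : orderOf (QuotientGroup.mk' C ⟨u, hu⟩) ∣ e := by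
    rw [← he]
    show _ ∣ C.index
    rw [index_eq_card]
    exact orderOf_dvd_natCard _
  rcases (Nat.dvd_prime hq).1 h1 with h | h
  · exact mem_subgroupOf.1 ((QuotientGroup.eq_one_iff _).1 (orderOf_eq_one_iff.1 h))
  · exact absurd (h ▸ h2) hqe

/-- The invariants are the same at all Sylow subgroups. -/
theorem relIndex_sylow {p : ℕ} [Fact p.Prime] (P Q : Sylow p G) :
    ∀ u ∈ normalizer ((Q : Subgroup G) : Set G), ∃ g : G, g • Q = P ∧
      g * u * g⁻¹ ∈ normalizer ((P : Subgroup G) : Set G) ∧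
      (g * u * g⁻¹ ∈ centralizer ((P : Subgroup G) : Set G) → u ∈ centralizer ((Q : Subgroup G) : Set G)) := by
  intro u hu
  obtain ⟨g, hg⟩ := MulAction.exists_smul_eq G Q P
  refine ⟨g, hg, ?_, fun h => mem_centralizer_iff.2 fun b hb => ?_⟩
  · refine Sylow.smul_eq_iff_mem_normalizer.1 ?_
    rw [mul_smul, mul_smul, ← hg, inv_smul_smul, Sylow.smul_eq_iff_mem_normalizer.2 hu]
  · have hb' : g * b * g⁻¹ ∈ (P : Subgroup G) := by
      rw [← hg]
      exact ⟨b, hb, rfl⟩
    have h2 := mem_centralizer_iff.1 h _ hb'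
    refine (MulAut.conj g).injective ?_
    simp only [map_mul, MulAut.conj_apply]
    exact h2

variable [IsSimpleGroup G]

theorem not_comm_of_sylows (P : Sylow 11 G) (h : 1 < Nat.card (Sylow 11 G)) : ¬ IsMulCommutative G := fun hc => by
  haveI : (P : Subgroup G).Normal := ⟨fun a ha g => by
    rw [show g * a * g⁻¹ = a by rw [hc.is_comm.comm g a, mul_inv_cancel_right]]
    exact ha⟩
  haveI : Subsingleton (Sylow 11 G) := (Sylow.unique_of_normal P inferInstance).instSubsingleton
  exact absurd (Finite.card_le_one_iff_subsingleton.2 inferInstance) (Nat.not_le.2 h)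

theorem normalizer_zpowers_ne_top (hG : ¬ IsMulCommutative G) {s : G} (hs : s ≠ 1) :
    normalizer ((zpowers s : Subgroup G) : Set G) ≠ ⊤ := fun h => by
  haveI := normalizer_eq_top_iff.1 h
  rcases IsSimpleGroup.eq_bot_or_eq_top_of_normal (zpowers s) inferInstance with e | e
  · exact hs (zpowers_eq_bot.1 e)
  · exact hG ⟨⟨fun a b => by
      obtain ⟨i, rfl⟩ := mem_zpowers_iff.1 (e ▸ mem_top a)
      obtain ⟨j, rfl⟩ := mem_zpowers_iff.1 (e ▸ mem_top b)
      exact (Commute.zpow_zpow_self s i j).eq⟩⟩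

variable (hP11 : ∀ R : Sylow 11 G, Nat.card (R : Subgroup G) = 11) (h144 : Nat.card (Sylow 11 G) = 144)
  (hsq : ¬ 11 ^ 2 ∣ Nat.card G)
include hP11 h144 hsq

/-- No subgroup of prime order of the centralizer is normal in the normalizer. -/
theorem kill_normal (P : Sylow 11 G) {e q : ℕ}
    (he : (centralizer ((P : Subgroup G) : Set G)).relIndex (normalizer ((P : Subgroup G) : Set G)) = e)
    (hq : q.Prime) (hq144 : q ∣ 144) (hqe : ¬ q ∣ e) {s : G} (hs : s ∈ centralizer ((P : Subgroup G) : Set G))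
    (hso : orderOf s = q)
    (hn : normalizer ((P : Subgroup G) : Set G) ≤ normalizer ((zpowers s : Subgroup G) : Set G)) : False := by
  classical
  haveI := Fact.mk hq
  have hG := not_comm_of_sylows P (by rw [h144]; norm_num)
  have hs1 : s ≠ 1 := fun h => by rw [h, orderOf_one] at hso; exact hq.one_lt.ne hso
  have hq11 : q ≠ 11 := by rintro rfl; norm_num at hq144
  have hH := normalizer_eq_of_le hP11 h144 hsq P hn (normalizer_zpowers_ne_top hG hs1) hs hq hq11 hso
  have hF := card_fixed_modEq (v := s) (q := q) (by rw [← hso, pow_orderOf_eq_one]) (Sylow 11 G)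
  rw [h144, Nat.mod_eq_zero_of_dvd hq144] at hF
  have hPfix : s • P = P := Sylow.smul_eq_iff_mem_normalizer.2 (centralizer_le_normalizer _ hs)
  have h2 : 1 < Nat.card {Q : Sylow 11 G // s • Q = Q} := by
    have hpos : 0 < Nat.card {Q : Sylow 11 G // s • Q = Q} :=
      Finite.card_pos_iff.2 ⟨⟨P, hPfix⟩⟩
    have := Nat.le_of_dvd hpos (Nat.dvd_of_mod_eq_zero hF)
    exact lt_of_lt_of_le hq.one_lt this
  haveI := Finite.one_lt_card_iff_nontrivial.1 h2
  obtain ⟨⟨Q, hQ⟩, hne⟩ := exists_ne (⟨P, hPfix⟩ : {Q : Sylow 11 G // s • Q = Q})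
  refine hne (Subtype.ext ?_)
  show Q = P
  obtain ⟨g, hg, hgN, hgC⟩ := relIndex_sylow P Q s (Sylow.smul_eq_iff_mem_normalizer.1 hQ)
  have hsC : s ∈ centralizer ((Q : Subgroup G) : Set G) :=
    hgC (mem_centralizer_of_coprime _ he hq hqe hgN (by
      rw [conj_pow, ← hso, pow_orderOf_eq_one, mul_one, mul_inv_cancel]))
  obtain ⟨x, hxQ, hx, -⟩ := exists_sylow_gen Q (hP11 Q)
  have hxH : x ∈ normalizer ((P : Subgroup G) : Set G) := by
    rw [← hH]
    refine centralizer_le_normalizer _ ?_
    rw [zpowers_eq_closure, centralizer_closure, mem_centralizer_singleton_iff]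
    exact mem_centralizer_iff.1 hsC x hxQ
  exact (sylow_eq_of_fixed hP11 hxQ (fun h => by rw [h, orderOf_one] at hx; omega)
    (Sylow.smul_eq_iff_mem_normalizer.2 hxH)).symm

/-- A centralizer of order 22 with the full automiser. -/
theorem kill_two (P : Sylow 11 G) (hC : Nat.card (centralizer ((P : Subgroup G) : Set G)) = 22)
    (hN : Nat.card (normalizer ((P : Subgroup G) : Set G)) = 220) : False := by
  classical
  haveI : Fact (Nat.Prime 2) := ⟨Nat.prime_two⟩
  have hG := not_comm_of_sylows P (by rw [h144]; norm_num)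
  set C := centralizer ((P : Subgroup G) : Set G) with hCdef
  set N := normalizer ((P : Subgroup G) : Set G) with hNdef
  have hn : Nat.card G = 31680 := by
    rw [← CfsgLib.SmallSimple.card_sylow_mul P, h144, hN]
  obtain ⟨⟨t, htC⟩, ht⟩ := exists_prime_orderOf_dvd_card' (G := C) 2 (by rw [hC]; norm_num)
  rw [orderOf_mk] at ht
  have ht2 : t * t = 1 := by rw [← sq, ← ht, pow_orderOf_eq_one]
  have hPC : (P : Subgroup G) ≤ C := comm_of_card_prime (hP11 P)
  have htP : t ∉ (P : Subgroup G) := fun h => by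
    have := orderOf_dvd_natCard _ h
    rw [ht, hP11 P] at this
    norm_num at this
  -- the involution of the centralizer is unique
  have huniq : ∀ u ∈ C, orderOf u = 2 → u = t := by
    intro u hu hu2
    have huu : u * u = 1 := by rw [← sq, ← hu2, pow_orderOf_eq_one]
    have huP : u ∉ (P : Subgroup G) := fun h => by
      have := orderOf_dvd_natCard _ h
      rw [hu2, hP11 P] at this
      norm_num at this
    have hidx : ((P : Subgroup G).subgroupOf C).index = 2 := by
      have h := card_mul_index ((P : Subgroup G).subgroupOf C)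
      rw [Nat.card_congr (subgroupOfEquivOfLe hPC).toEquiv, hP11 P, hC] at h
      omega
    have hmem : u * t ∈ (P : Subgroup G) := by
      have h := mul_mem_iff_of_index_two hidx (a := (⟨u, hu⟩ : C)) (b := ⟨t, htC⟩)
      simp only [mem_subgroupOf, coe_mul] at h
      exact h.2 (by simp [huP, htP])
    have hcomm : t * (u * t) = u * t * t := (mem_centralizer_iff.1 htC _ hmem).symm
    rw [mul_assoc u t t, ht2, mul_one] at hcomm
    have htu : t * u = u * t := by
      calc t * u = t * u * (t * t) := by rw [ht2, mul_one]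
        _ = (t * (u * t)) * t := by group
        _ = u * t := by rw [hcomm]
    have hsq' : (u * t) ^ 2 = 1 := by
      rw [sq]
      calc u * t * (u * t) = u * (t * u) * t := by group
        _ = u * u * (t * t) := by rw [htu]; group
        _ = 1 := by rw [huu, ht2, one_mul]
    have h1 : orderOf (u * t) ∣ 1 := by
      have h := Nat.dvd_gcd (orderOf_dvd_of_pow_eq_one hsq') (orderOf_dvd_natCard _ hmem)
      rwa [hP11 P, show Nat.gcd 2 11 = 1 from rfl] at h
    have := orderOf_eq_one_iff.1 (Nat.dvd_one.1 h1)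
    calc u = u * (t * t) := by rw [ht2, mul_one]
      _ = (u * t) * t := (mul_assoc _ _ _).symm
      _ = t := by rw [this, one_mul]
  have hCconj : ∀ g ∈ N, ∀ a ∈ C, g * a * g⁻¹ ∈ C := by
    intro g hg a ha
    refine mem_centralizer_iff.2 fun b hb => ?_
    have hb' : g⁻¹ * b * g ∈ (P : Subgroup G) := by simpa using (mem_normalizer_iff.1 (inv_mem hg) b).1 hb
    calc b * (g * a * g⁻¹) = g * (g⁻¹ * b * g * a) * g⁻¹ := by group
      _ = g * (a * (g⁻¹ * b * g)) * g⁻¹ := by rw [mem_centralizer_iff.1 ha _ hb']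
      _ = g * a * g⁻¹ * b := by group
  have hle : N ≤ centralizer ({t} : Set G) := fun g hg => by
    rw [mem_centralizer_singleton_iff]
    exact mul_inv_eq_iff_eq_mul.1 (huniq _ (hCconj g hg t htC) (by rw [← MulAut.conj_apply, MulEquiv.orderOf_eq, ht]))
  have ht1 : t ≠ 1 := fun h => by rw [h, orderOf_one] at ht; omega
  have hCt : centralizer ({t} : Set G) = N := normalizer_eq_of_le hP11 h144 hsq P hle (fun h =>
    normalizer_zpowers_ne_top hG ht1 (eq_top_iff.2 (h ▸ (by
      rw [← centralizer_closure, ← zpowers_eq_closure]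
      exact centralizer_le_normalizer _)))) htC Nat.prime_two (by norm_num) ht
  -- a central involution of a Sylow 2-subgroup
  obtain ⟨S, hS⟩ := (IsPGroup.of_card (p := 2) (n := 1) (G := zpowers t)
    (by rw [Nat.card_zpowers, ht, pow_one])).exists_le_sylow
  have hS64 : Nat.card (S : Subgroup G) = 2 ^ 6 := CfsgLib.SmallSimple.card_sylow_eq S (k := 6) (m := 495)
    (by rw [hn]; norm_num) (by norm_num)
  haveI : Nontrivial (S : Subgroup G) := Finite.one_lt_card_iff_nontrivial.1 (by rw [hS64]; norm_num)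
  haveI := S.isPGroup'.center_nontrivial
  obtain ⟨⟨⟨u, huS⟩, huZ⟩, hu⟩ : ∃ u : center (S : Subgroup G), orderOf u = 2 := by
    obtain ⟨n, hn'⟩ := IsPGroup.iff_card.1 (S.isPGroup'.to_subgroup (center (S : Subgroup G)))
    refine exists_prime_orderOf_dvd_card' 2 ?_
    rw [hn']
    refine dvd_pow_self 2 fun h0 => ?_
    have : 1 < Nat.card (center (S : Subgroup G)) := Finite.one_lt_card_iff_nontrivial.2 inferInstance
    rw [hn', h0] at this
    norm_num at this
  rw [orderOf_mk, orderOf_mk] at hu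
  have hSC : (S : Subgroup G) ≤ centralizer ({u} : Set G) := fun a ha => mem_centralizer_singleton_iff.2
    (congrArg Subtype.val (mem_center_iff.1 huZ ⟨a, ha⟩))
  have huN : u ∈ N := by
    rw [← hCt, mem_centralizer_singleton_iff]
    exact (congrArg Subtype.val (mem_center_iff.1 huZ ⟨t, hS (mem_zpowers t)⟩)).symm
  have h64 : 2 ^ 6 ∣ Nat.card (centralizer ({u} : Set G)) := hS64 ▸ card_dvd_of_le hSC
  have huC : u ∉ C := fun huC => by
    rw [huniq u huC hu, hCt, hN] at h64
    norm_num at h64
  -- the orbit of the Sylow subgroup under the centralizer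
  have hfb := fixed_bound hP11 P huN huC
  rw [h144] at hfb
  set D := centralizer ({u} : Set G) with hD
  have hPu : u • P = P := Sylow.smul_eq_iff_mem_normalizer.2 huN
  have horb : Nat.card (MulAction.orbit D P) ≤ Nat.card {Q : Sylow 11 G // u • Q = Q} := by
    refine Nat.card_le_card_of_injective (fun Q => ⟨Q.1, ?_⟩) fun a b h => Subtype.ext (congrArg Subtype.val h :)
    obtain ⟨d, hd⟩ := Q.2
    rw [← hd]
    show u • ((d : G) • P) = (d : G) • P
    rw [← mul_smul, ← mem_centralizer_singleton_iff.1 d.2, mul_smul, hPu]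
  have hst : Nat.card (MulAction.stabilizer D P) = Nat.card (D ⊓ N : Subgroup G) := by
    refine Nat.card_congr ⟨fun d => ⟨d.1.1, d.1.2, Sylow.smul_eq_iff_mem_normalizer.1 d.2⟩,
      fun d => ⟨⟨d.1, d.2.1⟩, Sylow.smul_eq_iff_mem_normalizer.2 d.2.2⟩, fun d => rfl, fun d => rfl⟩
  haveI := Fintype.ofFinite (MulAction.orbit D P)
  haveI := Fintype.ofFinite (MulAction.stabilizer D P)
  haveI := Fintype.ofFinite D
  have hmul := MulAction.card_orbit_mul_card_stabilizer_eq_card_group D P
  simp only [← Nat.card_eq_fintype_card] at hmul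
  rw [hst] at hmul
  have hd220 : Nat.card (D ⊓ N : Subgroup G) ∣ 220 := hN ▸ card_dvd_of_le inf_le_right
  have hd11 : ¬ 11 ∣ Nat.card (D ⊓ N : Subgroup G) := fun h => by
    obtain ⟨y, hy⟩ := exists_prime_orderOf_dvd_card' (G := (D ⊓ N : Subgroup G)) 11 h
    obtain ⟨x, hxD, hxN, hx⟩ : ∃ x, x ∈ D ∧ x ∈ N ∧ orderOf x = 11 :=
      ⟨y, y.2.1, y.2.2, (Subgroup.orderOf_coe y).trans hy⟩
    have hxP : x ∈ (P : Subgroup G) := CfsgLib.SmallSimple.mem_sylow_of_smul_eq (n := 1)
      (by rw [pow_one, ← hx, pow_orderOf_eq_one]) P (Sylow.smul_eq_iff_mem_normalizer.2 hxN)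
    refine huC ?_
    rw [hCdef, ← (zpowers_eq_of_mem_sylow (hP11 P) hxP (fun h => by rw [h, orderOf_one] at hx; omega)).1,
      zpowers_eq_closure, centralizer_closure, mem_centralizer_singleton_iff]
    exact (mem_centralizer_singleton_iff.1 hxD).symm
  have hcases : ∀ d : Fin 221, d.1 ∣ 220 → ¬ 11 ∣ d.1 → ∀ m : Fin 15, 64 ∣ m.1 * d.1 → m.1 = 0 := by decide +kernel
  rw [Nat.card_eq_fintype_card (α := MulAction.orbit D P)] at horb
  have h15 : Fintype.card (MulAction.orbit D P) < 15 := by omega
  have h0 := hcases ⟨_, Nat.lt_succ_of_le (Nat.le_of_dvd (by norm_num) hd220)⟩ hd220 hd11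
    ⟨_, h15⟩ (by
      show 64 ∣ Fintype.card (MulAction.orbit D P) * _
      rw [← Nat.card_eq_fintype_card, hmul]
      exact h64)
  simp only at h0
  haveI : Nonempty (MulAction.orbit D P) := ⟨⟨P, MulAction.mem_orbit_self P⟩⟩
  exact Fintype.card_ne_zero h0

end CfsgLib.M12Graph
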