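import Cfsg.Agent.M12Graph.SimpleOrders
import Cfsg.Agent.Char.DegreeBounds
import Cfsg.Agent.Char.PrimeCodegree
import Cfsg.Agent.Char.Products
import Cfsg.Agent.Char.Clifford
import Cfsg.Agent.SmallSimple.Degrees7920
import Cfsg.Agent.SmallSimple.M11Uniq.Main
import Cfsg.Agent.Golay.M11Fusion
import Cfsg.Agent.S2034
import Cfsg.Agent.S2060
import Cfsg.Agent.S0228

/-!
# Groups of order 95040 with characters of degree divisible by 55 and by 33
-/

set_option autoImplicit false
set_option linter.style.haveILetI false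
set_option linter.unusedSectionVars false

namespace CfsgLib.M12Graph

open Subgroup Cfsg CfsgLib.Char CfsgLib.SmallDegreeGraph

variable {G : Type*} [Group G] [Finite G]

/-- The degree squared is bounded by the index of the centre. -/
theorem sq_mul_center_le {χ : G → ℂ} (hχ : Cfsg.IsIrrCharacter G χ) {d : ℕ} (hd : χ 1 = d) :
    d * d * Nat.card (center G) ≤ Nat.card G := by
  have h := IsIrrCharacter.degree_sq_mul_le hχ (B := ⊥) (C := ⊤) (D := center G) le_top
    (fun z hz c _ => by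
      rw [mem_bot, mul_inv_eq_one, ← mem_center_iff.1 hz c, mul_inv_cancel_right])
    (fun b hb => by rw [mem_bot.1 hb])
  rw [card_top, hd, Complex.norm_natCast] at h
  have h0 : ((d * d * Nat.card (center G) * Nat.card G : ℕ) : ℝ) ≤ ((Nat.card G * Nat.card G : ℕ) : ℝ) := by
    push_cast
    nlinarith [h]
  exact Nat.le_of_mul_le_mul_right (Nat.cast_le.1 h0) Nat.card_pos

theorem free_eleven {N : ℕ} (h : N ∣ 8640) : Free 11 N :=
  (free_of_freeB (p := 11) (n := 8640) (by norm_num) (by decide +kernel)).of_dvd h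

/-- The subgroup generated by the Sylow 11-subgroups, over its largest normal subgroup of order prime to eleven. -/
theorem exists_perfect (hcard : Nat.card G = 95040) (h11 : 11 ∈ Cfsg.degreePrimes G) :
    ∃ (K : Subgroup G) (_ : K.Normal) (B : Subgroup K) (_ : B.Normal), IsSimpleGroup (K ⧸ B) ∧
      ¬ IsMulCommutative (K ⧸ B) ∧ 11 ∣ Nat.card (K ⧸ B) ∧ B ≤ center K ∧ commutator K = ⊤ := by
  classical
  haveI : Fact (Nat.Prime 11) := ⟨by norm_num⟩
  have hsq : ¬ 11 ^ 2 ∣ Nat.card G := by rw [hcard]; norm_num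
  have hnPN : ¬ PN 11 G := fun h => not_mem_degreePrimes_of_pn hsq h h11
  have hP11 : ∀ R : Sylow 11 G, Nat.card (R : Subgroup G) = 11 := fun R =>
    card_sylow_eq_prime (by rw [hcard]; norm_num) hsq R
  obtain ⟨P⟩ : Nonempty (Sylow 11 G) := inferInstance
  obtain ⟨x, hxP, hx, hxz⟩ := exists_sylow_gen P (hP11 P)
  set K := normalClosure ((P : Subgroup G) : Set G) with hK
  have hPK : (P : Subgroup G) ≤ K := le_normalClosure
  haveI hKn : K.Normal := normalClosure_normal
  -- normal subgroups meeting a Sylow subgroup contain all of them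
  have hall : ∀ M : Subgroup G, M.Normal → ∀ a ∈ M, orderOf a = 11 → K ≤ M := by
    intro M hM a ha hao
    obtain ⟨R, hR⟩ := (IsPGroup.of_card (p := 11) (n := 1) (G := zpowers a)
      (by rw [Nat.card_zpowers, hao, pow_one])).exists_le_sylow
    obtain ⟨g, hg⟩ := MulAction.exists_smul_eq G R P
    refine normalClosure_le_normal fun b hb => ?_
    have hb' : b ∈ ((g • R : Sylow 11 G) : Subgroup G) := by rw [hg]; exact hb
    obtain ⟨r, hr, rfl⟩ := hb'
    refine hM.conj_mem r ?_ g
    refine zpowers_le.2 ha ?_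
    rw [(zpowers_eq_of_mem_sylow (hP11 R) (hR (mem_zpowers a)) (fun h => by rw [h, orderOf_one] at hao; omega)).1]
    exact hr
  have hKne : (⊤ : Subgroup K) ≠ ⊥ := fun h => by
    have h1 : (⟨x, hPK hxP⟩ : K) ∈ (⊥ : Subgroup K) := h ▸ mem_top _
    rw [mem_bot] at h1
    have h2 : x = 1 := congrArg Subtype.val h1
    rw [h2, orderOf_one] at hx
    omega
  haveI : Fintype (Subgroup K) := Fintype.ofFinite _
  obtain ⟨B, hB, hBmax⟩ := Finset.exists_max_image
    (Finset.univ.filter fun B : Subgroup K => B.Normal ∧ B ≠ ⊤) (fun B => Nat.card B)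
    ⟨⊥, Finset.mem_filter.2 ⟨Finset.mem_univ _, inferInstance, hKne.symm⟩⟩
  obtain ⟨-, hBn, hBtop⟩ := Finset.mem_filter.1 hB
  haveI := hBn
  haveI hsimple : IsSimpleGroup (K ⧸ B) := by
    haveI : Nontrivial (K ⧸ B) := QuotientGroup.nontrivial_iff.2 hBtop
    refine ⟨fun H hH => ?_⟩
    have hle : B ≤ H.comap (QuotientGroup.mk' B) := fun b hb => by
      rw [mem_comap, QuotientGroup.mk'_apply, (QuotientGroup.eq_one_iff b).2 hb]
      exact one_mem H
    by_cases htop : H.comap (QuotientGroup.mk' B) = ⊤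
    · refine Or.inr (eq_top_iff.2 fun q _ => ?_)
      obtain ⟨k, rfl⟩ := QuotientGroup.mk'_surjective B q
      exact mem_comap.1 (htop ▸ mem_top k)
    · have h1 := hBmax _ (Finset.mem_filter.2 ⟨Finset.mem_univ _, inferInstance, htop⟩)
      have h2 := eq_of_le_of_card_ge hle h1
      refine Or.inl ((eq_bot_iff_forall H).2 fun q hq => ?_)
      obtain ⟨k, rfl⟩ := QuotientGroup.mk'_surjective B q
      exact (QuotientGroup.eq_one_iff k).2 (h2 ▸ mem_comap.2 hq)
  have hB11 : ¬ 11 ∣ Nat.card B := fun h => by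
    obtain ⟨⟨a, ha⟩, hao⟩ := exists_prime_orderOf_dvd_card' (G := B) 11 h
    rw [orderOf_mk] at hao
    have hle : zpowers a ≤ B := zpowers_le.2 ha
    refine hBtop (eq_top_iff.2 fun k _ => ?_)
    -- all conjugates inside `K`
    have hsqK : ¬ 11 ^ 2 ∣ Nat.card K := fun hd => hsq (hd.trans K.card_subgroup_dvd_card)
    have hmem : ∀ b : K, orderOf b = 11 → b ∈ B := fun b hb => by
      obtain ⟨c, hc⟩ := FixedPoints.sylow_conj hsqK hao hb
      have := hBn.conj_mem _ (hle hc) c⁻¹
      simpa [mul_assoc] using this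
    have hgen : K ≤ B.map K.subtype := by
      refine (closure_le _).2 ?_
      intro b hb
      obtain ⟨p, hp, hpb⟩ := Group.mem_conjugatesOfSet_iff.1 hb
      obtain ⟨g, rfl⟩ := isConj_iff.1 hpb
      by_cases hb1 : p = 1
      · rw [hb1, mul_one, mul_inv_cancel]
        exact one_mem _
      have hbK : g * p * g⁻¹ ∈ K := hKn.conj_mem p (hPK hp) g
      refine ⟨⟨_, hbK⟩, hmem _ ?_, rfl⟩
      rw [← Subgroup.orderOf_coe]
      show orderOf (g * p * g⁻¹) = 11
      rw [← MulAut.conj_apply, MulEquiv.orderOf_eq, (zpowers_eq_of_mem_sylow (hP11 P) hp hb1).2]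
    obtain ⟨k', hk', hkk⟩ := hgen k.2
    exact Subtype.ext (a1 := k') (a2 := k) hkk ▸ hk'
  have hT11 : 11 ∣ Nat.card (K ⧸ B) := by
    have h : 11 ∣ Nat.card K := hP11 P ▸ card_dvd_of_le hPK
    rw [card_eq_card_quotient_mul_card_subgroup B] at h
    exact ((show Nat.Prime 11 by norm_num).dvd_mul.1 h).resolve_right hB11
  -- the Sylow subgroups centralise `B`
  have hBZ : B ≤ center K := by
    set B' := B.map K.subtype with hB'
    have hB'c : Nat.card B' = Nat.card B := card_map_of_injective K.subtype_injective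
    have hdvd : Nat.card B' ∣ 8640 := by
      have h1 : Nat.card B' * 11 ∣ 8640 * 11 := by
        rw [hB'c, show 8640 * 11 = Nat.card G from hcard.symm]
        refine dvd_trans ?_ K.card_subgroup_dvd_card
        rw [card_eq_card_quotient_mul_card_subgroup B, mul_comm]
        exact Nat.mul_dvd_mul_right hT11 _
      exact Nat.dvd_of_mul_dvd_mul_right (by norm_num) h1
    have hnorm : K ≤ normalizer (B' : Set G) := by
      intro k hk
      have hconj : ∀ k : K, ∀ b ∈ B', (k : G) * b * (k : G)⁻¹ ∈ B' := by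
        rintro k _ ⟨b, hb, rfl⟩
        exact ⟨k * b * k⁻¹, hBn.conj_mem b hb k, rfl⟩
      refine mem_normalizer_iff.2 fun b => ⟨hconj ⟨k, hk⟩ b, fun h => ?_⟩
      have h' := hconj ⟨k, hk⟩⁻¹ _ h
      simpa [mul_assoc] using h'
    have hcen : K ≤ centralizer (B' : Set G) := by
      refine (closure_le _).2 ?_
      intro b hb
      obtain ⟨p, hp, hpb⟩ := Group.mem_conjugatesOfSet_iff.1 hb
      obtain ⟨g, rfl⟩ := isConj_iff.1 hpb
      have hgP : g * p * g⁻¹ ∈ ((g • P : Sylow 11 G) : Subgroup G) := ⟨p, hp, rfl⟩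
      have hQK : ((g • P : Sylow 11 G) : Subgroup G) ≤ K := by
        rintro _ ⟨q, hq, rfl⟩
        exact hKn.conj_mem q (hPK hq) g
      have h1 := le_centralizer_of_free (g • P).isPGroup' (hQK.trans hnorm) (by rw [hB'c]; exact hB11)
        (free_eleven hdvd)
      exact mem_centralizer_iff.2 fun c hc => (mem_centralizer_iff.1 (h1 hc) _ hgP).symm
    intro b hb
    exact mem_center_iff.2 fun k => Subtype.ext (mem_centralizer_iff.1 (hcen k.2) b ⟨b, hb, rfl⟩).symm
  -- the quotient is not abelian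
  have hnab : ¬ IsMulCommutative (K ⧸ B) := fun hab => by
    haveI hcyc : IsCyclic (K ⧸ B) := by
      letI : CommGroup (K ⧸ B) := { (inferInstance : Group (K ⧸ B)) with mul_comm := hab.is_comm.comm }
      haveI : Fact (Nat.Prime (Nat.card (K ⧸ B))) := ⟨IsSimpleGroup.prime_card⟩
      exact isCyclic_of_prime_card rfl
    have hKab : ∀ a b : K, a * b = b * a := fun a b =>
      (MonoidHom.isMulCommutative_of_isCyclic_of_ker_le_center (QuotientGroup.mk' B) (by rw [QuotientGroup.ker_mk']; exact hBZ)).is_comm.comm a b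
    have hPn : (P : Subgroup G).Normal := by
      refine ⟨fun a ha g => ?_⟩
      by_cases ha1 : a = 1
      · rw [ha1, mul_one, mul_inv_cancel]
        exact one_mem _
      have hbK : g * a * g⁻¹ ∈ K := hKn.conj_mem a (hPK ha) g
      obtain ⟨c, hc⟩ := FixedPoints.sylow_conj (fun hd => hsq (hd.trans K.card_subgroup_dvd_card))
        (g := (⟨x, hPK hxP⟩ : K)) (g' := ⟨_, hbK⟩) (by rw [orderOf_mk, hx]) (by
          rw [orderOf_mk, ← MulAut.conj_apply, MulEquiv.orderOf_eq, (zpowers_eq_of_mem_sylow (hP11 P) ha ha1).2])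
      rw [hKab c ⟨_, hbK⟩, mul_inv_cancel_right] at hc
      obtain ⟨i, hi⟩ := mem_zpowers_iff.1 hc
      rw [← hxz]
      exact ⟨i, congrArg Subtype.val hi⟩
    refine hnPN fun R => ?_
    obtain ⟨g, hg⟩ := MulAction.exists_smul_eq G P R
    haveI : Subsingleton (Sylow 11 G) := (Sylow.unique_of_normal P hPn).instSubsingleton
    rw [Subsingleton.elim R P]
    exact hPn
  refine ⟨K, hKn, B, hBn, hsimple, hnab, hT11, hBZ, ?_⟩
  -- perfect
  have himg : (commutator K).map (QuotientGroup.mk' B) = ⊤ := by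
    rw [_root_.commutator_def, map_commutator, map_top_of_surjective _ (QuotientGroup.mk'_surjective B), ← _root_.commutator_def]
    rcases IsSimpleGroup.eq_bot_or_eq_top_of_normal (commutator (K ⧸ B)) inferInstance with h | h
    · refine absurd ⟨⟨fun a b => ?_⟩⟩ hnab
      rw [← commutatorElement_eq_one_iff_mul_comm, ← mem_bot, ← h, _root_.commutator_def]
      exact commutator_mem_commutator (mem_top a) (mem_top b)
    · exact h
  have h11' : 11 ∣ Nat.card (commutator K) := by
    refine hT11.trans ?_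
    have h := card_map_dvd (commutator K) (QuotientGroup.mk' B)
    rwa [himg, card_top] at h
  obtain ⟨⟨a, ha⟩, hao⟩ := exists_prime_orderOf_dvd_card' (G := commutator K) 11 h11'
  rw [orderOf_mk] at hao
  haveI hD : ((commutator K).map K.subtype).Normal := inferInstance
  have hle := hall _ hD (a : G) ⟨a, ha, rfl⟩ (by rw [Subgroup.orderOf_coe, hao])
  refine eq_top_iff.2 fun k _ => ?_
  obtain ⟨k', hk', hkk⟩ := hle k.2
  exact Subtype.ext (a1 := k') (a2 := k) hkk ▸ hk'

/-- A degree divisible by `55` excludes the quotient of order 660. -/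
theorem not_six_sixty (hcard : Nat.card G = 95040) (K : Subgroup G) [K.Normal] (B : Subgroup K) [B.Normal]
    (hBZ : B ≤ center K) (hT : Nat.card (K ⧸ B) = 660) {d : ℕ} (hd : d ∈ Cfsg.charDegrees G) (h55 : 55 ∣ d) : False := by
  classical
  haveI := Fintype.ofFinite G
  haveI := Fintype.ofFinite K
  obtain ⟨χ, hχ, hχ1⟩ := exists_of_mem_charDegrees hd
  obtain ⟨θ, hθ, hc⟩ := exists_constituent_restrict (N := K) hχ
  obtain ⟨k, hk, hkθ⟩ := exists_degree_ratio hχ hθ hc
  obtain ⟨m, hm0, hm⟩ := IsIrrCharacter.exists_degree hθ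
  rw [hχ1, hm] at hkθ
  have hdk : d = k * m := by exact_mod_cast hkθ
  have hKc : Nat.card K = 660 * Nat.card B := by rw [card_eq_card_quotient_mul_card_subgroup B, hT]
  have hidx : K.index ∣ 144 := by
    refine ⟨Nat.card B, Nat.eq_of_mul_eq_mul_left (n := 660) (by norm_num) ?_⟩
    rw [show 660 * 144 = Nat.card G from hcard.symm, ← K.card_mul_index, hKc]
    ring
  have hcop : Nat.Coprime 55 k := Nat.Coprime.of_dvd_right (hk.trans hidx) (by norm_num)
  have h55m : 55 ∣ m := hcop.dvd_of_dvd_mul_left (hdk ▸ h55)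
  have hbound := sq_mul_center_le hθ hm
  rw [hKc] at hbound
  have hBle : Nat.card B ≤ Nat.card (center K) := Nat.le_of_dvd Nat.card_pos (card_dvd_of_le hBZ)
  have h1 : m * m * Nat.card B ≤ 660 * Nat.card B := (Nat.mul_le_mul_left _ hBle).trans hbound
  have h2 : m * m ≤ 660 := Nat.le_of_mul_le_mul_right h1 Nat.card_pos
  have h3 : 55 * 55 ≤ m * m := Nat.mul_le_mul (Nat.le_of_dvd hm0 h55m) (Nat.le_of_dvd hm0 h55m)
  omega

/-- A perfect central extension of a simple group of order 7920 is the Mathieu group. -/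
theorem equiv_m11 {K : Type*} [Group K] [Finite K] (hperf : commutator K = ⊤) (B : Subgroup K) [B.Normal]
    [IsSimpleGroup (K ⧸ B)] (hBZ : B ≤ center K) (hT : Nat.card (K ⧸ B) = 7920) : Nonempty (K ≃* Spor.M11) := by
  classical
  haveI := CfsgLib.Golay.isSimple_M11
  obtain ⟨e⟩ := CfsgLib.M11Uniq.nonempty_equiv (G := K ⧸ B) (H := Spor.M11) CfsgLib.Golay.card_M11 hT
  -- a copy of `K` in a small universe
  let ι : K →* Equiv.Perm (Fin (Nat.card K)) :=
    (Finite.equivFin K).permCongrHom.toMonoidHom.comp (MulAction.toPermHom K K)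
  have hι : Function.Injective ι := (Finite.equivFin K).permCongrHom.injective.comp MulAction.toPerm_injective
  let ψ : K ≃* ι.range := MonoidHom.ofInjective hι
  let σ : ι.range →* Spor.M11 := (e.toMonoidHom.comp (QuotientGroup.mk' B)).comp ψ.symm.toMonoidHom
  have hker : ∀ x : ι.range, x ∈ σ.ker ↔ ψ.symm x ∈ B := fun x => by
    show e (QuotientGroup.mk' B (ψ.symm x)) = 1 ↔ _
    rw [e.map_eq_one_iff, QuotientGroup.mk'_apply, QuotientGroup.eq_one_iff]
  have hstem : IsStemExtension σ := by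
    refine ⟨(e.surjective.comp (QuotientGroup.mk'_surjective B)).comp ψ.symm.surjective, fun x hx => ?_, fun x _ => ?_⟩
    · have hc := hBZ ((hker x).1 hx)
      refine mem_center_iff.2 fun y => ψ.symm.injective ?_
      rw [map_mul, map_mul]
      exact mem_center_iff.1 hc _
    · have htop : (⊤ : Subgroup K).map ψ.toMonoidHom = ⊤ := map_top_of_surjective ψ.toMonoidHom ψ.surjective
      have h : (commutator K).map ψ.toMonoidHom = commutator ι.range := by
        rw [_root_.commutator_def, map_commutator, htop, ← _root_.commutator_def]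
      rw [← h, hperf, htop]
      exact mem_top x
  obtain ⟨π, hπ⟩ := (Cfsg.Agent.S2034.result).2 ι.range σ hstem
  have hB1 : ∀ b ∈ B, b = 1 := by
    intro b hb
    obtain ⟨a, ha⟩ := hπ ⟨ψ b, (hker _).2 (by rw [MulEquiv.symm_apply_apply]; exact hb)⟩
    rw [Subsingleton.elim a 1, map_one] at ha
    have h1 : ψ b = 1 := (congrArg Subtype.val ha).symm
    exact ψ.map_eq_one_iff.1 h1
  refine ⟨MulEquiv.ofBijective (e.toMonoidHom.comp (QuotientGroup.mk' B))
    ⟨(injective_iff_map_eq_one _).2 fun k hk => ?_, e.surjective.comp (QuotientGroup.mk'_surjective B)⟩⟩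
  exact hB1 k ((QuotientGroup.eq_one_iff k).1 (e.map_eq_one_iff.1 hk))

/-- A normal Mathieu group of degree eleven is a direct factor. -/
theorem equiv_prod (hcard : Nat.card G = 95040) (K : Subgroup G) [hKn : K.Normal] (φ : K ≃* Spor.M11) :
    ∃ C : Subgroup G, Nat.card C = 12 ∧ Nonempty (G ≃* C × Spor.M11) := by
  classical
  have hOut := Cfsg.Agent.S2060.result
  have hinn : ∀ α : MulAut Spor.M11, ∃ m : Spor.M11, MulAut.conj m = α := by
    intro α
    haveI : Subsingleton (Cfsg.Out Spor.M11) := (Nat.card_eq_one_iff_unique.1 hOut).1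
    exact (QuotientGroup.eq_one_iff (N := (MulAut.conj : Spor.M11 →* MulAut Spor.M11).range) α).1 (Subsingleton.elim _ _)
  haveI := CfsgLib.Golay.isSimple_M11
  set C := centralizer (K : Set G) with hC
  have hsplit : ∀ g : G, ∃ k ∈ K, k⁻¹ * g ∈ C := by
    intro g
    obtain ⟨m, hm⟩ := hinn ((φ.symm.trans (MulAut.conjNormal g : MulAut K)).trans φ)
    refine ⟨(φ.symm m : K), (φ.symm m).2, mem_centralizer_iff.2 fun a ha => ?_⟩
    have h := DFunLike.congr_fun hm (φ ⟨a, ha⟩)
    simp only [MulEquiv.trans_apply, MulEquiv.symm_apply_apply, MulAut.conj_apply] at h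
    have h' := congrArg φ.symm h
    simp only [map_mul, map_inv, MulEquiv.symm_apply_apply] at h'
    have h2 : ((φ.symm m : K) : G) * a * ((φ.symm m : K) : G)⁻¹ = g * a * g⁻¹ :=
      (congrArg Subtype.val h').trans (MulAut.conjNormal_apply g ⟨a, ha⟩)
    calc a * (((φ.symm m : K) : G)⁻¹ * g)
        = ((φ.symm m : K) : G)⁻¹ * (((φ.symm m : K) : G) * a * ((φ.symm m : K) : G)⁻¹) * g := by group
      _ = ((φ.symm m : K) : G)⁻¹ * (g * a * g⁻¹) * g := by rw [h2]
      _ = ((φ.symm m : K) : G)⁻¹ * g * a := by group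
  have hcomm : ∀ (c : C) (k : K), (c : G) * k = k * c := fun c k => (mem_centralizer_iff.1 c.2 k k.2).symm
  let f : C × Spor.M11 →* G :=
    { toFun := fun p => (p.1 : G) * (φ.symm p.2 : K)
      map_one' := by simp
      map_mul' := fun p q => by
        simp only [Prod.fst_mul, Prod.snd_mul, map_mul, Subgroup.coe_mul]
        rw [mul_assoc (p.1 : G), ← mul_assoc (q.1 : G), hcomm q.1, mul_assoc, mul_assoc] }
  have hKC : ∀ a : G, a ∈ K → a ∈ C → a = 1 := by
    intro a haK haC
    have hmem : φ ⟨a, haK⟩ ∈ center Spor.M11 := mem_center_iff.2 fun m => by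
      obtain ⟨k, rfl⟩ := φ.surjective m
      rw [← map_mul, ← map_mul]
      exact congrArg φ (Subtype.ext (mem_centralizer_iff.1 haC k k.2))
    rcases IsSimpleGroup.eq_bot_or_eq_top_of_normal (center Spor.M11) inferInstance with h | h
    · rw [h, mem_bot, φ.map_eq_one_iff] at hmem
      exact congrArg Subtype.val hmem
    · exfalso
      have hab : IsMulCommutative Spor.M11 := ⟨⟨fun a b => mem_center_iff.1 (h ▸ mem_top b) a⟩⟩
      letI : CommGroup Spor.M11 := { (inferInstance : Group Spor.M11) with mul_comm := hab.is_comm.comm }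
      have := IsSimpleGroup.prime_card (α := Spor.M11)
      rw [CfsgLib.Golay.card_M11] at this
      norm_num at this
  have hinj : Function.Injective f := by
    rw [injective_iff_map_eq_one]
    rintro ⟨c, m⟩ h
    have hc : (c : G) = ((φ.symm m : K) : G)⁻¹ := eq_inv_of_mul_eq_one_left h
    have h1 : (c : G) = 1 := hKC _ (hc ▸ inv_mem (φ.symm m).2) c.2
    have h2 : φ.symm m = 1 := Subtype.ext (inv_eq_one.1 (hc.symm.trans h1))
    exact Prod.ext (Subtype.ext h1) (φ.symm.map_eq_one_iff.1 h2)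
  have hsurj : Function.Surjective f := fun g => by
    obtain ⟨k, hk, hkc⟩ := hsplit g
    refine ⟨(⟨_, hkc⟩, φ ⟨k, hk⟩), ?_⟩
    show k⁻¹ * g * ((φ.symm (φ ⟨k, hk⟩) : K) : G) = g
    rw [MulEquiv.symm_apply_apply]
    have h : k * (k⁻¹ * g) = k⁻¹ * g * k := mem_centralizer_iff.1 hkc k hk
    exact h.symm.trans (mul_inv_cancel_left k g)
  refine ⟨C, ?_, ⟨(MulEquiv.ofBijective f ⟨hinj, hsurj⟩).symm⟩⟩
  have h := Nat.card_eq_of_bijective f ⟨hinj, hsurj⟩
  rw [Nat.card_prod, CfsgLib.Golay.card_M11, hcard] at h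
  omega

/-- Groups of order 12 times the Mathieu group with a degree divisible by `33`. -/
theorem equiv_alt {C : Type*} [Group C] [Finite C] (hC : Nat.card C = 12) {d : ℕ}
    (hd : d ∈ Cfsg.charDegrees (C × Spor.M11)) (h33 : 33 ∣ d) : Nonempty (C ≃* alternatingGroup (Fin 4)) := by
  classical
  obtain ⟨χ, hχ, hχ1⟩ := exists_of_mem_charDegrees hd
  obtain ⟨α, β, hα, hβ, rfl⟩ := (isIrrCharacter_prod_iff χ).1 hχ
  obtain ⟨a, ha0, ha⟩ := IsIrrCharacter.exists_degree hα
  obtain ⟨b, hb0, hb⟩ := IsIrrCharacter.exists_degree hβ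
  simp only [Prod.fst_one, Prod.snd_one, ha, hb] at hχ1
  have hab : d = a * b := by exact_mod_cast hχ1.symm
  have hadvd : a ∣ 12 := hC ▸ IsIrrCharacter.degree_dvd_card hα ha
  haveI := CfsgLib.Golay.isSimple_M11
  have hmem : b ∈ ((irrFinset Spor.M11).val.map Cfsg.charDegree) :=
    Multiset.mem_map.2 ⟨β, mem_irrFinset.2 hβ, charDegree_eq hb⟩
  rw [CfsgLib.Degrees7920.degrees CfsgLib.Golay.card_M11, Multiset.mem_coe] at hmem
  have hcases : ∀ a : Fin 13, ∀ b ∈ [1, 55, 10, 10, 10, 45, 11, 44, 16, 16], a.1 ∣ 12 → 33 ∣ a.1 * b → 3 ∣ a.1 := by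
    decide +kernel
  have h3 : 3 ∣ a := hcases ⟨a, Nat.lt_succ_of_le (Nat.le_of_dvd (by norm_num) hadvd)⟩ b hmem hadvd (hab ▸ h33)
  have hbound := sq_mul_center_le hα ha
  rw [hC] at hbound
  have ha3 : 3 ≤ a := Nat.le_of_dvd ha0 h3
  refine Cfsg.Agent.S0228.result hC fun z hz hzZ => ?_
  have h2 : 2 ∣ Nat.card (center C) := hz ▸ orderOf_dvd_natCard _ hzZ
  have hpos : 0 < Nat.card (center C) := Nat.card_pos
  have h9 : 9 * 2 ≤ a * a * Nat.card (center C) :=
    Nat.mul_le_mul (Nat.mul_le_mul ha3 ha3) (Nat.le_of_dvd hpos h2)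
  omega

/-- **The reduction.** -/
theorem simple_or_product (hcard : Nat.card G = 95040) (h55 : ∃ d ∈ Cfsg.charDegrees G, 55 ∣ d)
    (h33 : ∃ d ∈ Cfsg.charDegrees G, 33 ∣ d) :
    (IsSimpleGroup G ∧ ¬ IsMulCommutative G) ∨ Nonempty (G ≃* alternatingGroup (Fin 4) × Spor.M11) := by
  obtain ⟨d, hd, hd55⟩ := h55
  have h11 : 11 ∈ Cfsg.degreePrimes G := ⟨by norm_num, d, hd, (dvd_mul_left 11 5).trans hd55⟩
  obtain ⟨K, hKn, B, hBn, hsimple, hnab, hT11, hBZ, hperf⟩ := exists_perfect hcard h11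
  have hKc := card_eq_card_quotient_mul_card_subgroup B
  have hdvd : Nat.card (K ⧸ B) ∣ 95040 :=
    (Dvd.intro _ hKc.symm).trans (hcard ▸ K.card_subgroup_dvd_card)
  rcases simple_order hnab hdvd hT11 with h | h | h
  · exact (not_six_sixty hcard K B hBZ h hd hd55).elim
  · right
    obtain ⟨φ⟩ := equiv_m11 hperf B hBZ h
    obtain ⟨C, hC, ⟨e⟩⟩ := equiv_prod hcard K φ
    obtain ⟨d', hd', hd33⟩ := h33
    rw [charDegrees_congr e] at hd'
    obtain ⟨a⟩ := equiv_alt hC hd' hd33
    exact ⟨e.trans (MulEquiv.prodCongr a (MulEquiv.refl _))⟩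
  · left
    have hle : Nat.card K ≤ 95040 := hcard ▸ card_le_card_group K
    have hB1 : Nat.card B = 1 := by
      have : 0 < Nat.card B := Nat.card_pos
      rw [hKc, h] at hle
      omega
    have hK : K = ⊤ := eq_top_of_card_eq K (by rw [hKc, h, hB1, hcard])
    have hBbot : B = ⊥ := Subgroup.card_eq_one.1 hB1
    let e : G ≃* K ⧸ B := ((topEquiv.symm.trans (MulEquiv.subgroupCongr hK.symm)).trans
      QuotientGroup.quotientBot.symm).trans (QuotientGroup.quotientMulEquivOfEq hBbot.symm)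
    haveI : Nontrivial G := e.toEquiv.nontrivial
    haveI : IsSimpleGroup G := IsSimpleGroup.isSimpleGroup_of_surjective e.symm.toMonoidHom e.symm.surjective
    refine ⟨inferInstance, fun hc => hnab ⟨⟨fun a b => e.symm.injective ?_⟩⟩⟩
    rw [map_mul, map_mul]
    exact hc.is_comm.comm _ _

end CfsgLib.M12Graph
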