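import Cfsg.Agent.M12Graph.Kill15840

/-!
# Simple groups whose order divides 95040 and is divisible by eleven

Such a group has order 660, 7920 or 95040.
-/

set_option autoImplicit false
set_option linter.style.haveILetI false
set_option linter.unusedSectionVars false

namespace CfsgLib.M12Graph

open Subgroup MulAction CfsgLib.FixedPoints

/-- The possible configurations with a nonreal element of order eleven. -/
theorem configurations : ∀ k ∈ [12, 45, 144, 320, 540, 1728], ∀ e ∈ [5, 10], ∀ c : Fin 145, c.1 ≠ 0 →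
    k * e * c.1 ∣ 8640 →
    (k = 12) ∨ (k = 1728 ∧ e = 5 ∧ c.1 = 1) ∨
    (k = 144 ∧ ((e = 5 ∧ (c.1 = 1 ∨ c.1 = 12)) ∨ (e = 10 ∧ c.1 = 6) ∨ (e = 10 ∧ c.1 = 1) ∨ (e = 10 ∧ c.1 = 2) ∨
      (e = 5 ∧ (c.1 = 2 ∨ c.1 = 4)) ∨ ((e = 5 ∨ e = 10) ∧ c.1 = 3) ∨ (e = 5 ∧ c.1 = 6))) := by
  decide +kernel

theorem sylow_count_aux : ∀ a b : Fin 29, 11 * (29 * a.1 + b.1) + 1 ∣ 8640 →
    11 * (29 * a.1 + b.1) + 1 = 1 ∨ 11 * (29 * a.1 + b.1) + 1 ∈ [12, 45, 144, 320, 540, 1728] := by decide +kernel

theorem sylow_count_options (k : ℕ) (hd : k ∣ 8640) (hm : k % 11 = 1) :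
    k = 1 ∨ k ∈ [12, 45, 144, 320, 540, 1728] := by
  have hle : k ≤ 8640 := Nat.le_of_dvd (by norm_num) hd
  have e : 11 * (29 * (k / 11 / 29) + k / 11 % 29) + 1 = k := by omega
  have h := sylow_count_aux ⟨k / 11 / 29, by omega⟩ ⟨k / 11 % 29, by omega⟩ (by rw [e]; exact hd)
  rwa [e] at h

/-- The orders with a real element of order eleven. -/
theorem real_options : ∀ k ∈ [12, 45, 144, 320, 540, 1728], k * 2 ∣ 8640 →
    Nat.sqrt (21780 * k) * Nat.sqrt (21780 * k) = 21780 * k → k = 45 := by decide +kernel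

variable {G : Type*} [Group G] [Finite G]

/-- The subgroup of order `q ^ a` in the centralizer is invariant under the normalizer. -/
theorem exists_invariant {q a : ℕ} [Fact q.Prime] (P : Sylow 11 G) (hP : Nat.card (P : Subgroup G) = 11) {c : ℕ}
    (hC : Nat.card (centralizer ((P : Subgroup G) : Set G)) = 11 * c) (hq : q ≠ 11) {b : ℕ} (hc : c = q ^ a * b)
    (hqb : ¬ q ∣ b) (hb : ∀ d, d ∣ b → d % q = 1 → d = 1) :
    ∃ T : Subgroup G, Nat.card T = q ^ a ∧ T ≤ centralizer ((P : Subgroup G) : Set G) ∧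
      normalizer ((P : Subgroup G) : Set G) ≤ normalizer (T : Set G) := by
  set C := centralizer ((P : Subgroup G) : Set G) with hCdef
  obtain ⟨T0⟩ : Nonempty (Sylow q C) := inferInstance
  have hq11 : ¬ q ∣ 11 := fun h => hq ((Nat.prime_dvd_prime_iff_eq Fact.out (by norm_num)).1 h)
  have hT0 : Nat.card (T0 : Subgroup C) = q ^ a :=
    CfsgLib.SmallSimple.card_sylow_eq T0 (k := a) (m := 11 * b) (by rw [hC, hc]; ring)
      fun h => ((Fact.out : q.Prime).dvd_mul.1 h).elim hq11 hqb
  have hPC : (P : Subgroup G) ≤ C := comm_of_card_prime hP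
  have hsub : Subsingleton (Sylow q C) := by
    have h1 : (P : Subgroup G).subgroupOf C ≤ normalizer ((T0 : Subgroup C) : Set C) := by
      intro x hx
      refine centralizer_le_normalizer _ (mem_centralizer_iff.2 fun t _ => Subtype.ext ?_)
      exact (mem_centralizer_iff.1 t.2 x.1 (mem_subgroupOf.1 hx)).symm
    have h2 : (T0 : Subgroup C) ≤ normalizer ((T0 : Subgroup C) : Set C) := le_normalizer
    have h11 : 11 ∣ Nat.card (normalizer ((T0 : Subgroup C) : Set C)) := by
      have := card_dvd_of_le h1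
      rwa [Nat.card_congr (subgroupOfEquivOfLe hPC).toEquiv, hP] at this
    have hqa : q ^ a ∣ Nat.card (normalizer ((T0 : Subgroup C) : Set C)) := hT0 ▸ card_dvd_of_le h2
    obtain ⟨r, hr⟩ := Nat.Coprime.mul_dvd_of_dvd_of_dvd
      (Nat.Coprime.pow_right a ((Nat.coprime_primes (by norm_num) Fact.out).2 hq.symm)) h11 hqa
    have h := CfsgLib.SmallSimple.card_sylow_mul T0
    rw [hr, hC, hc] at h
    have hdvd : Nat.card (Sylow q C) ∣ b := ⟨r, by
      refine Nat.eq_of_mul_eq_mul_left (n := 11 * q ^ a) (Nat.mul_pos (by norm_num)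
        (pow_pos (Fact.out : q.Prime).pos a)) ?_
      linear_combination -h⟩
    have h3 : Nat.card (Sylow q C) % q = 1 :=
      Eq.trans (card_sylow_modEq_one q C) (Nat.mod_eq_of_lt (Fact.out : q.Prime).one_lt)
    exact Finite.card_le_one_iff_subsingleton.1 (hb _ hdvd h3).le
  refine ⟨(T0 : Subgroup C).map C.subtype, by rw [card_map_of_injective C.subtype_injective, hT0],
    map_subtype_le _, fun g hg => ?_⟩
  have hconjC : ∀ g ∈ normalizer ((P : Subgroup G) : Set G), ∀ t ∈ C, g * t * g⁻¹ ∈ C := by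
    intro g hg t ht
    refine mem_centralizer_iff.2 fun p hp => ?_
    have hp' : g⁻¹ * p * g ∈ (P : Subgroup G) := by simpa using (mem_normalizer_iff.1 (inv_mem hg) p).1 hp
    calc p * (g * t * g⁻¹) = g * (g⁻¹ * p * g * t) * g⁻¹ := by group
      _ = g * (t * (g⁻¹ * p * g)) * g⁻¹ := by rw [mem_centralizer_iff.1 ht _ hp']
      _ = g * t * g⁻¹ * p := by group
  have hconjT : ∀ g ∈ normalizer ((P : Subgroup G) : Set G), ∀ t ∈ (T0 : Subgroup C).map C.subtype,
      g * t * g⁻¹ ∈ (T0 : Subgroup C).map C.subtype := by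
    rintro g hg _ ⟨t, ht, rfl⟩
    have hpg : IsPGroup q (zpowers (⟨g * t * g⁻¹, hconjC g hg t t.2⟩ : C)) := by
      obtain ⟨j, hj⟩ := T0.isPGroup' ⟨t, ht⟩
      have hj' : (t : G) ^ q ^ j = 1 := congrArg (fun v : (T0 : Subgroup C) => ((v : C) : G)) hj
      intro v
      refine ⟨j, Subtype.ext ?_⟩
      obtain ⟨i, hi⟩ := mem_zpowers_iff.1 v.2
      rw [SubgroupClass.coe_pow, ← hi, OneMemClass.coe_one, ← zpow_natCast, ← zpow_mul, mul_comm, zpow_mul,
        zpow_natCast, show (⟨g * t * g⁻¹, hconjC g hg t t.2⟩ : C) ^ q ^ j = 1 from Subtype.ext (by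
          simp [conj_pow, hj']), one_zpow]
    obtain ⟨T1, hT1⟩ := hpg.exists_le_sylow
    rw [hsub.elim T1 T0] at hT1
    exact ⟨_, hT1 (mem_zpowers _), rfl⟩
  refine mem_normalizer_iff.2 fun t => ⟨hconjT g hg t, fun h => ?_⟩
  have h' := hconjT g⁻¹ (inv_mem hg) _ h
  rwa [inv_inv, show g⁻¹ * (g * t * g⁻¹) * g = t by group] at h'

variable [IsSimpleGroup G]

/-- **The orders.** -/
theorem simple_order (hG : ¬ IsMulCommutative G) (hdvd : Nat.card G ∣ 95040) (h11 : 11 ∣ Nat.card G) :
    Nat.card G = 660 ∨ Nat.card G = 7920 ∨ Nat.card G = 95040 := by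
  classical
  have hp : Nat.Prime 11 := by norm_num
  have hsq : ¬ 11 ^ 2 ∣ Nat.card G := fun h => by
    have := h.trans hdvd
    norm_num at this
  have hP11 : ∀ R : Sylow 11 G, Nat.card (R : Subgroup G) = 11 := fun R =>
    SmallDegreeGraph.card_sylow_eq_prime h11 hsq R
  obtain ⟨P⟩ : Nonempty (Sylow 11 G) := inferInstance
  set C := centralizer ((P : Subgroup G) : Set G) with hCdef
  set N := normalizer ((P : Subgroup G) : Set G) with hNdef
  obtain ⟨c, hC⟩ : 11 ∣ Nat.card C := hP11 P ▸ card_dvd_of_le (comm_of_card_prime (hP11 P))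
  obtain ⟨e, he⟩ : ∃ e, C.relIndex N = e := ⟨_, rfl⟩
  have hNc : Nat.card N = 11 * c * e := by
    rw [← he, ← hC, ← Nat.card_congr (subgroupOfEquivOfLe (centralizer_le_normalizer _ : C ≤ N)).toEquiv]
    exact (card_mul_index (C.subgroupOf N)).symm
  have he10 : e ∣ 10 := by
    rw [← he]
    show (C.subgroupOf N).index ∣ 10
    rw [hCdef, hNdef, ← normalizerMonoidHom_ker, index_ker]
    refine (card_subgroup_dvd_card _).trans ?_
    haveI : IsCyclic (P : Subgroup G) := isCyclic_of_prime_card (hP11 P)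
    rw [IsCyclic.card_mulAut, hP11 P, Nat.totient_prime hp]
  have hlt : Nat.card (P : Subgroup G) < Nat.card G := by
    refine lt_of_le_of_ne (card_le_card_group _) fun h => hG ?_
    rw [hP11 P] at h
    haveI : IsCyclic G := isCyclic_of_prime_card h.symm
    exact ⟨⟨fun a b => (IsCyclic.commGroup (α := G)).mul_comm a b⟩⟩
  have he1 : e ≠ 1 := fun h => by
    refine CfsgLib.SmallSimple.not_le_centralizer P (by rw [hP11 P]; norm_num) hlt ?_
    exact relIndex_eq_one.1 (he.trans h)
  set k := Nat.card (Sylow 11 G) with hk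
  have hn : k * (11 * c * e) = Nat.card G := hNc ▸ CfsgLib.SmallSimple.card_sylow_mul P
  have hkec : k * e * c ∣ 8640 := by
    have h : 11 * (k * e * c) ∣ 11 * 8640 := by
      rw [show 11 * (k * e * c) = Nat.card G by rw [← hn]; ring]
      exact hdvd
    exact Nat.dvd_of_mul_dvd_mul_left (by norm_num) h
  have hk1 : k ≠ 1 := CfsgLib.SmallSimple.card_sylow_ne_one P (by rw [hP11 P]; norm_num) hlt
  have hkmod : k % 11 = 1 := Eq.trans (card_sylow_modEq_one 11 G) (by norm_num)
  have hk8640 : k ∣ 8640 := (Dvd.intro (e * c) (mul_assoc k e c).symm).trans hkec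
  have hkL : k ∈ [12, 45, 144, 320, 540, 1728] :=
    (sylow_count_options k hk8640 hkmod).resolve_left hk1
  have he4 : e = 2 ∨ e = 5 ∨ e = 10 := by
    have hd : ∀ e : Fin 11, e.1 ∣ 10 → e.1 ≠ 1 → e.1 = 2 ∨ e.1 = 5 ∨ e.1 = 10 := by decide
    exact hd ⟨e, Nat.lt_succ_of_le (Nat.le_of_dvd (by norm_num) he10)⟩ he10 he1
  have hinv2 : ∃ z : G, orderOf z = 2 ∧ (e % 2 = 0 → z ∈ N) := by
    rcases he4 with h | h | h
    · obtain ⟨⟨z, hz⟩, hzo⟩ := exists_prime_orderOf_dvd_card' (G := N) 2 (by rw [hNc, h]; exact dvd_mul_left 2 _)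
      exact ⟨z, (Subgroup.orderOf_coe _).trans hzo, fun _ => hz⟩
    · haveI : Fact (Nat.Prime 2) := ⟨Nat.prime_two⟩
      by_cases h2 : 2 ∣ Nat.card G
      · obtain ⟨z, hz⟩ := exists_prime_orderOf_dvd_card' (G := G) 2 h2
        exact ⟨z, hz, fun h' => by omega⟩
      · exfalso
        rw [← hn] at h2
        rcases List.mem_cons.1 hkL with h' | hkL'
        · exact h2 (h' ▸ Dvd.dvd.mul_right (by norm_num) _)
        have hc : ∀ k ∈ [45, 144, 320, 540, 1728], ∀ c : Fin 193, k * 5 * c.1 ∣ 8640 → c.1 ≠ 0 → 2 ∣ k * (11 * c.1 * 5) := by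
          decide +kernel
        have hc0 : c ≠ 0 := fun h0 => by
          have : 0 < Nat.card C := Nat.card_pos
          rw [hC, h0] at this
          omega
        have hcle : c < 193 := by
          have : k * e * c ≤ 8640 := Nat.le_of_dvd (by norm_num) hkec
          have h45 : 45 ≤ k := by
            rcases List.mem_cons.1 hkL' with h' | h'
            · omega
            · simp only [List.mem_cons, List.not_mem_nil, or_false] at h'
              omega
          have : 45 * 5 * c ≤ k * e * c := Nat.mul_le_mul_right c (Nat.mul_le_mul h45 (le_of_eq h.symm))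
          omega
        subst h
        exact h2 (hc k hkL' ⟨c, hcle⟩ hkec hc0)
    · obtain ⟨⟨z, hz⟩, hzo⟩ := exists_prime_orderOf_dvd_card' (G := N) 2
        (by rw [hNc, h]; exact Dvd.dvd.mul_left (by norm_num) _)
      exact ⟨z, (Subgroup.orderOf_coe _).trans hzo, fun _ => hz⟩
  obtain ⟨z, hzo, hzN⟩ := hinv2
  have hz2 : z ^ 2 = 1 := by rw [← hzo, pow_orderOf_eq_one]
  rcases eq_or_ne e 2 with he2 | he2
  · exfalso
    subst he2
    obtain ⟨hC11, r, hr⟩ := real_case hG hdvd P (hP11 P) he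
    rw [← hCdef, hC] at hC11
    have hc1 : c = 1 := by omega
    subst hc1
    rw [← hn, show 990 * (k * (11 * 1 * 2)) = 21780 * k by ring] at hr
    have h45 := real_options k hkL (by simpa using hkec) (by rw [hr, Nat.sqrt_eq])
    -- a group of order 990 has an odd permutation
    obtain ⟨j, hj⟩ := involution_parity hG (v := z) hz2 G
    haveI : IsEmpty {a : G // z • a = a} := ⟨fun a => by
      have h := a.2
      rw [smul_eq_mul, mul_eq_right] at h
      rw [h, orderOf_one] at hzo
      omega⟩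
    rw [Nat.card_of_isEmpty (α := {a : G // z • a = a}), ← hn, h45] at hj
    omega
  have he5 : e ∈ [5, 10] := by simp only [List.mem_cons, List.not_mem_nil, or_false]; omega
  have hc0 : c ≠ 0 := fun h0 => by
    have : 0 < Nat.card C := Nat.card_pos
    rw [hC, h0] at this
    omega
  have hcle : c < 145 := by
    have : k * e * c ≤ 8640 := Nat.le_of_dvd (by norm_num) hkec
    have h12 : 12 ≤ k := by simp only [List.mem_cons, List.not_mem_nil, or_false] at hkL; omega
    have h5 : 5 ≤ e := by simp only [List.mem_cons, List.not_mem_nil, or_false] at he5; omega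
    have : 12 * 5 * c ≤ k * e * c := Nat.mul_le_mul_right c (Nat.mul_le_mul h12 h5)
    omega
  rcases configurations k hkL e he5 ⟨c, hcle⟩ hc0 hkec with hk12 | ⟨hk', hee, hcc⟩ | ⟨hk144, hcases⟩
  · -- twelve Sylow subgroups
    obtain ⟨x, hxP, hx, -⟩ := exists_sylow_gen P (hP11 P)
    have hidx : N.index = 12 := (Sylow.card_eq_index_normalizer P).symm.trans hk12
    have hc1 : c = 1 := by
      by_contra hc1
      obtain ⟨q, hq, hqc⟩ := Nat.exists_prime_and_dvd hc1
      haveI := Fact.mk hq
      have hq11 : q ≠ 11 := by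
        rintro rfl
        exact absurd (hqc.trans ((dvd_mul_left c (k * e)).trans hkec)) (by norm_num)
      obtain ⟨⟨w, hw⟩, hwo⟩ := exists_prime_orderOf_dvd_card' (G := C) q (hC ▸ hqc.mul_left 11)
      rw [orderOf_mk] at hwo
      have h1 := eq_one_of_index_twelve hidx hx (le_normalizer hxP) (centralizer_le_normalizer _ hw)
        (mem_centralizer_iff.1 hw x hxP).symm hq hq11 (by rw [← hwo, pow_orderOf_eq_one])
      rw [h1, orderOf_one] at hwo
      exact hq.one_lt.ne hwo
    subst hc1
    rcases he4 with h | h | h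
    · exact absurd h he2
    · left
      rw [← hn, hk12, h]
    · exfalso
      have hzN' : z ∈ N := hzN (by omega)
      have hzC : z ∉ C := fun hz => by
        have := orderOf_dvd_natCard _ hz
        rw [hzo, hC] at this
        norm_num at this
      have hb := fixed_bound hP11 P hzN' hzC
      obtain ⟨j, hj⟩ := involution_parity hG (v := z) hz2 (Sylow 11 G)
      have hpos : 0 < Nat.card {Q : Sylow 11 G // z • Q = Q} :=
        Finite.card_pos_iff.2 ⟨⟨P, Sylow.smul_eq_iff_mem_normalizer.2 hzN'⟩⟩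
      rw [← hk, hk12] at hj hb
      omega
  · right; right
    simp only at hcc
    rw [← hn, hk', hee, hcc]
  · have hk144' : Nat.card (Sylow 11 G) = 144 := hk ▸ hk144
    simp only at hcases
    have kill : ∀ (q a b : ℕ) [Fact q.Prime], c = q ^ a * b → q ≠ 11 → q ∣ 144 → ¬ q ∣ e → ¬ q ∣ b →
        (∀ d, d ∣ b → d % q = 1 → d = 1) → (a = 1 ∨ (q = 2 ∧ a = 2 ∧ b = 1 ∧ e = 5)) → False := by
      intro q a b _ hcq hq11 hq144 hqe hqb hb ha
      obtain ⟨T, hT, hTC, hTN⟩ := exists_invariant P (hP11 P) hC hq11 hcq hqb hb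
      obtain ⟨⟨s, hsT⟩, hs⟩ := exists_prime_orderOf_dvd_card' (G := T) q (by
        rw [hT]; rcases ha with rfl | ⟨-, rfl, -, -⟩ <;> simp)
      rw [orderOf_mk] at hs
      refine kill_normal hP11 hk144' hsq P he Fact.out hq144 hqe (hTC hsT) hs ?_
      rcases ha with rfl | ⟨rfl, rfl, rfl, he'⟩
      · have hTs : zpowers s = T := eq_of_le_of_card_ge (zpowers_le.2 hsT) (by rw [hT, Nat.card_zpowers, hs, pow_one])
        rw [hTs]
        exact hTN
      · -- four-groups are centralised
        subst he'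
        haveI : IsMulCommutative T := IsPGroup.isMulCommutative_of_card_eq_prime_sq hT
        have hCT : C ≤ centralizer (T : Set G) := by
          have h1 : (P : Subgroup G) ≤ C ⊓ centralizer (T : Set G) := le_inf (comm_of_card_prime (hP11 P))
            fun p hp => mem_centralizer_iff.2 fun t ht => (mem_centralizer_iff.1 (hTC ht) p hp).symm
          have h2 : T ≤ C ⊓ centralizer (T : Set G) := le_inf hTC fun t ht => mem_centralizer_iff.2 fun t' ht' =>
            congrArg Subtype.val (IsMulCommutative.is_comm.comm (⟨t', ht'⟩ : T) ⟨t, ht⟩)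
          refine (eq_of_le_of_card_ge (inf_le_left : C ⊓ centralizer (T : Set G) ≤ C) ?_).ge.trans inf_le_right
          rw [hC, hcq, mul_one]
          exact Nat.le_of_dvd Nat.card_pos (Nat.Coprime.mul_dvd_of_dvd_of_dvd (by norm_num)
            (hP11 P ▸ card_dvd_of_le h1) (hT ▸ card_dvd_of_le h2))
        intro g hg
        haveI : (C.subgroupOf N).Normal := normalizerMonoidHom_ker (H := (P : Subgroup G)) ▸ MonoidHom.normal_ker _
        have hg5 : g ^ 5 ∈ C := by
          have h := Subgroup.pow_index_mem (C.subgroupOf N) ⟨g, hg⟩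
          rw [show (C.subgroupOf N).index = 5 from he, mem_subgroupOf] at h
          exact h
        have hgc : g ^ 5 * s * (g ^ 5)⁻¹ = s :=
          mul_inv_eq_iff_eq_mul.2 (mem_centralizer_iff.1 (hCT hg5) s hsT).symm
        haveI := Fintype.ofFinite T
        let σ : Equiv.Perm T :=
          { toFun := fun t => ⟨g * t * g⁻¹, (mem_normalizer_iff.1 (hTN hg) t).1 t.2⟩
            invFun := fun t => ⟨g⁻¹ * t * g, by simpa using (mem_normalizer_iff.1 (inv_mem (hTN hg)) t).1 t.2⟩
            left_inv := fun t => Subtype.ext (by group)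
            right_inv := fun t => Subtype.ext (by group) }
        have hpow : ∀ (m : ℕ) (t : T), (((σ ^ m) t : T) : G) = g ^ m * t * (g ^ m)⁻¹ := by
          intro m
          induction m with
          | zero => intro t; simp
          | succ m ih =>
            intro t
            rw [pow_succ', Equiv.Perm.mul_apply]
            show g * ((σ ^ m) t : T) * g⁻¹ = _
            rw [ih, pow_succ']
            group
        have hσ5 : σ ^ 5 = 1 := Equiv.ext fun t => Subtype.ext (by
          rw [hpow]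
          exact mul_inv_eq_iff_eq_mul.2 (mem_centralizer_iff.1 (hCT hg5) t t.2).symm)
        have hσ : σ = 1 := by
          refine orderOf_eq_one_iff.1 (Nat.dvd_one.1 ?_)
          have h := Nat.dvd_gcd (orderOf_dvd_of_pow_eq_one hσ5) (orderOf_dvd_natCard σ)
          rw [Nat.card_perm, hT] at h
          exact h.trans (by decide)
        have hgs : g * s * g⁻¹ = s := congrArg Subtype.val (Equiv.ext_iff.1 hσ ⟨s, hsT⟩)
        rw [zpowers_eq_closure]
        refine centralizer_le_normalizer _ ?_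
        rw [centralizer_closure, mem_centralizer_singleton_iff]
        exact mul_inv_eq_iff_eq_mul.1 hgs
    haveI : Fact (Nat.Prime 2) := ⟨Nat.prime_two⟩
    haveI : Fact (Nat.Prime 3) := ⟨Nat.prime_three⟩
    have hb1 : ∀ q d : ℕ, d ∣ 1 → d % q = 1 → d = 1 := fun q d h _ => Nat.dvd_one.1 h
    rcases hcases with ⟨hee, hcc | hcc⟩ | ⟨hee, hcc⟩ | ⟨hee, hcc⟩ | ⟨hee, hcc⟩ | ⟨hee, hcc | hcc⟩ | ⟨hee, hcc⟩ |
      ⟨hee, hcc⟩
    · right; left; rw [← hn, hk144, hee, hcc]
    · right; right; rw [← hn, hk144, hee, hcc]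
    · right; right; rw [← hn, hk144, hee, hcc]
    · exact (kill_15840 hP11 hk144' P (by rw [← hCdef, hC, hcc]) (by rw [← hNdef, hNc, hcc, hee])).elim
    · exact (kill_two hP11 hk144' hsq P (by rw [← hCdef, hC, hcc]) (by rw [← hNdef, hNc, hcc, hee])).elim
    · exact (kill 2 1 1 (by omega) (by norm_num) (by norm_num) (by omega) (by norm_num) (hb1 2) (Or.inl rfl)).elim
    · exact (kill 2 2 1 (by omega) (by norm_num) (by norm_num) (by omega) (by norm_num) (hb1 2)
        (Or.inr ⟨rfl, rfl, rfl, hee⟩)).elim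
    · exact (kill 3 1 1 (by omega) (by norm_num) (by norm_num) (by omega) (by norm_num) (hb1 3) (Or.inl rfl)).elim
    · exact (kill 3 1 2 (by omega) (by norm_num) (by norm_num) (by omega) (by norm_num) (fun d hd hm => by
        rcases (Nat.dvd_prime Nat.prime_two).1 hd with rfl | rfl <;> omega) (Or.inl rfl)).elim

end CfsgLib.M12Graph
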